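import Mathlib
import Cfsg.Prelude.Def_OddOrderLocal
import Cfsg.Agent.Lib.Core.Nilpotent

/-!
# Groups in which the centraliser of every element is a TI set

* `isNilpotent_of_center`: with a non-trivial centre the group is nilpotent.
* without centre the maximal centralisers (`IsBlock`) form a partition into nilpotent Hall TI
  subgroups containing the centralisers of their non-identity elements.

Owner: helper15.
-/

set_option autoImplicit false
set_option linter.all false

namespace CfsgLib.PLocal.TICent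

open Subgroup

variable {G : Type*} [Group G]

/-- The centraliser of every element is a TI set. -/
def TICentralizers (G : Type*) [Group G] : Prop :=
  ∀ x : G, Cfsg.IsTISubset (centralizer ({x} : Set G) : Set G)

theorem mem_cent {x y : G} : y ∈ centralizer ({x} : Set G) ↔ y * x = x * y :=
  mem_centralizer_singleton_iff

/-- A nilpotency criterion: each element commutes with its conjugates. -/
theorem isNilpotent_of_commute_conj [Finite G] (h : ∀ x g : G, Commute x (g * x * g⁻¹)) :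
    Group.IsNilpotent G := by
  refine ((Group.isNilpotent_of_finite_tfae (G := G)).out 0 3).2 ?_
  intro p hp P
  refine ⟨fun a ha g => ?_⟩
  have hcomm : IsMulCommutative (normalClosure ({a} : Set G)) := by
    refine Subgroup.isMulCommutative_closure fun x hx y hy => ?_
    obtain ⟨a', ha', hxc⟩ := Group.mem_conjugatesOfSet_iff.1 hx
    obtain ⟨a'', ha'', hyc⟩ := Group.mem_conjugatesOfSet_iff.1 hy
    rw [Set.mem_singleton_iff] at ha' ha''
    subst ha' ha''
    obtain ⟨c, rfl⟩ := isConj_iff.1 hxc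
    obtain ⟨d, rfl⟩ := isConj_iff.1 hyc
    rename' a'' => a
    have := (h a (c⁻¹ * d)).eq
    calc c * a * c⁻¹ * (d * a * d⁻¹) = c * (a * (c⁻¹ * d * a * (c⁻¹ * d)⁻¹)) * c⁻¹ := by group
      _ = c * (c⁻¹ * d * a * (c⁻¹ * d)⁻¹ * a) * c⁻¹ := by rw [this]
      _ = d * a * d⁻¹ * (c * a * c⁻¹) := by group
  have hpg : IsPGroup p (normalClosure ({a} : Set G)) := by
    obtain ⟨k, hk⟩ := IsPGroup.iff_orderOf.1 P.isPGroup' ⟨a, ha⟩
    rw [Subgroup.orderOf_mk] at hk
    rintro ⟨x, hx⟩
    refine ⟨k, Subtype.ext ?_⟩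
    show x ^ p ^ k = 1
    induction hx using closure_induction with
    | mem x hx =>
      obtain ⟨a', ha', hxc⟩ := Group.mem_conjugatesOfSet_iff.1 hx
      rw [Set.mem_singleton_iff] at ha'
      subst ha'
      obtain ⟨c, rfl⟩ := isConj_iff.1 hxc
      rw [conj_pow, ← hk, pow_orderOf_eq_one, mul_one, mul_inv_cancel]
    | one => exact one_pow _
    | mul x y hx hy ex ey =>
      rw [Commute.mul_pow (congrArg Subtype.val (hcomm.is_comm.comm ⟨x, hx⟩ ⟨y, hy⟩)), ex, ey, one_mul]
    | inv x hx ex => rw [inv_pow, ex, inv_one]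
  have hle : normalClosure ({a} : Set G) ≤ (P : Subgroup G) :=
    le_sup_left.trans (P.3 (hpg.to_sup_of_normal_left P.2) le_sup_right).le
  exact hle ((inferInstance : (normalClosure ({a} : Set G)).Normal).conj_mem a
    (subset_normalClosure rfl) g)

variable (hTI : TICentralizers G)
include hTI

/-- An element taking a non-identity element of `C(x)` into `C(x)` normalises `C(x)`. -/
theorem mem_normalizer_cent {x g y : G} (hy : y ∈ centralizer ({x} : Set G)) (hy1 : y ≠ 1)
    (hgy : g * y * g⁻¹ ∈ centralizer ({x} : Set G)) :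
    g ∈ normalizer (centralizer ({x} : Set G) : Set G) :=
  of_not_not fun hn => hy1 (hTI x g hn y hy hgy)

/-- The centraliser of an element commuting with `b` normalises `C(b)`. -/
theorem cent_le_normalizer {a b : G} (ha : a ≠ 1) (hab : a * b = b * a) :
    centralizer ({a} : Set G) ≤ normalizer (centralizer ({b} : Set G) : Set G) := fun g hg =>
  mem_normalizer_cent hTI (mem_cent.2 hab) ha (by
    rw [mem_cent.1 hg, mul_inv_cancel_right]; exact mem_cent.2 hab)

/-- Subgroups inherit the hypothesis. -/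
theorem subgroup (K : Subgroup G) : TICentralizers K := by
  intro x g hg y hy hgy
  by_contra hy1
  refine hg (mem_normalizer_iff.2 fun z => ?_)
  have hgN : (g : G) ∈ normalizer (centralizer ({(x : G)} : Set G) : Set G) :=
    mem_normalizer_cent hTI (y := (y : G))
      (mem_cent.2 (congrArg Subtype.val (mem_cent.1 hy))) (fun e => hy1 (Subtype.ext e))
      (mem_cent.2 (congrArg Subtype.val (mem_cent.1 hgy)))
  have := mem_normalizer_iff.1 hgN (z : G)
  simp only [SetLike.mem_coe, mem_cent] at this ⊢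
  constructor <;> intro hz
  · exact Subtype.ext (this.1 (congrArg Subtype.val hz))
  · exact Subtype.ext (this.2 (congrArg Subtype.val hz))

theorem isNilpotent_of_center [Finite G] (hZ : center G ≠ ⊥) : Group.IsNilpotent G := by
  obtain ⟨z, hz, hz1⟩ := (center G).bot_or_exists_ne_one.resolve_left hZ
  refine isNilpotent_of_commute_conj fun x g => ?_
  have hzc : ∀ a : G, z ∈ centralizer ({a} : Set G) := fun a => mem_cent.2 (mem_center_iff.1 hz a).symm
  have hg : g ∈ normalizer (centralizer ({x} : Set G) : Set G) :=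
    mem_normalizer_cent hTI (hzc x) hz1 (by
      rw [mem_center_iff.1 hz g, mul_inv_cancel_right]; exact hzc x)
  exact (mem_cent.1 ((mem_normalizer_iff.1 hg x).1 (mem_cent.2 rfl))).symm

variable [Finite G]

theorem isNilpotent_cent {x : G} (hx : x ≠ 1) : Group.IsNilpotent (centralizer ({x} : Set G)) := by
  refine isNilpotent_of_center (subgroup hTI _) fun e => hx ?_
  have h : (⟨x, mem_cent.2 rfl⟩ : centralizer ({x} : Set G)) ∈ center (centralizer ({x} : Set G)) :=
    mem_center_iff.2 fun y => Subtype.ext (mem_cent.1 y.2)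
  rw [e, mem_bot] at h
  exact congrArg Subtype.val h

omit hTI

/-- A maximal centraliser of a non-identity element. -/
def IsBlock (M : Subgroup G) : Prop :=
  ∃ x : G, x ≠ 1 ∧ M = centralizer ({x} : Set G) ∧
    ∀ y : G, y ≠ 1 → M ≤ centralizer ({y} : Set G) → centralizer ({y} : Set G) = M

theorem exists_block_ge {y : G} (hy : y ≠ 1) : ∃ M, IsBlock M ∧ centralizer ({y} : Set G) ≤ M := by
  haveI : Finite (Subgroup G) := Finite.of_injective (fun K : Subgroup G => (K : Set G)) SetLike.coe_injective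
  obtain ⟨M, hle, ⟨x, hx, rfl⟩, hmax⟩ := (Set.toFinite
    {M : Subgroup G | ∃ x : G, x ≠ 1 ∧ M = centralizer ({x} : Set G)}).exists_le_maximal
      (a := centralizer ({y} : Set G)) ⟨y, hy, rfl⟩
  exact ⟨_, ⟨x, hx, rfl, fun w hw hle' => le_antisymm (hmax ⟨w, hw, rfl⟩ hle') hle'⟩, hle⟩

theorem IsBlock.ne_bot {M : Subgroup G} (hM : IsBlock M) : M ≠ ⊥ := by
  obtain ⟨x, hx, rfl, -⟩ := hM
  intro e
  have : x ∈ centralizer ({x} : Set G) := mem_cent.2 rfl
  rw [e, mem_bot] at this
  exact hx this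

theorem IsBlock.ne_top {M : Subgroup G} (hM : IsBlock M) (hZ : center G = ⊥) : M ≠ ⊤ := by
  obtain ⟨x, hx, rfl, -⟩ := hM
  intro e
  have : x ∈ center G := mem_center_iff.2 fun g => mem_cent.1 (show g ∈ centralizer ({x} : Set G) by rw [e]; trivial)
  rw [hZ, mem_bot] at this
  exact hx this

theorem IsBlock.conj {M : Subgroup G} (hM : IsBlock M) (g : G) :
    IsBlock (M.map (MulAut.conj g).toMonoidHom) := by
  have key : ∀ (c y : G), (centralizer ({y} : Set G)).map (MulAut.conj c).toMonoidHom =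
      centralizer ({c * y * c⁻¹} : Set G) := by
    intro c y
    ext z
    rw [mem_map, mem_cent]
    constructor
    · rintro ⟨a, ha, rfl⟩
      show c * a * c⁻¹ * (c * y * c⁻¹) = c * y * c⁻¹ * (c * a * c⁻¹)
      calc c * a * c⁻¹ * (c * y * c⁻¹) = c * (a * y) * c⁻¹ := by group
        _ = c * (y * a) * c⁻¹ := by rw [mem_cent.1 ha]
        _ = c * y * c⁻¹ * (c * a * c⁻¹) := by group
    · intro hz
      refine ⟨c⁻¹ * z * c, mem_cent.2 ?_, show c * (c⁻¹ * z * c) * c⁻¹ = z by group⟩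
      calc c⁻¹ * z * c * y = c⁻¹ * (z * (c * y * c⁻¹)) * c := by group
        _ = c⁻¹ * (c * y * c⁻¹ * z) * c := by rw [hz]
        _ = y * (c⁻¹ * z * c) := by group
  obtain ⟨x, hx, rfl, hmax⟩ := hM
  refine ⟨g * x * g⁻¹, fun e => hx (conj_eq_one_iff.1 e), key g x, fun y hy hle => ?_⟩
  have hy' : g⁻¹ * y * g ≠ 1 := fun e => hy (by
    calc y = g * (g⁻¹ * y * g) * g⁻¹ := by group
      _ = 1 := by rw [e, mul_one, mul_inv_cancel])
  have e : centralizer ({y} : Set G) = (centralizer ({g⁻¹ * y * g} : Set G)).map (MulAut.conj g).toMonoidHom := by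
    rw [key g]
    congr 2
    group
  rw [e] at hle ⊢
  rw [hmax _ hy' ((map_le_map_iff_of_injective (MulAut.conj g).injective).1 hle)]

include hTI

/-- Commuting centres of blocks give equal blocks. -/
theorem eq_of_commute {x z : G} (hx : x ≠ 1) (hz : z ≠ 1) (hM : IsBlock (centralizer ({x} : Set G)))
    (hL : IsBlock (centralizer ({z} : Set G)))
    (hxm : ∀ y : G, y ≠ 1 → centralizer ({x} : Set G) ≤ centralizer ({y} : Set G) → centralizer ({y} : Set G) = centralizer ({x} : Set G))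
    (hzm : ∀ y : G, y ≠ 1 → centralizer ({z} : Set G) ≤ centralizer ({y} : Set G) → centralizer ({y} : Set G) = centralizer ({z} : Set G))
    (hxz : x * z = z * x) : centralizer ({x} : Set G) = centralizer ({z} : Set G) := by
  set M := centralizer ({x} : Set G)
  set L := centralizer ({z} : Set G)
  haveI := isNilpotent_cent hTI hx
  haveI := isNilpotent_cent hTI hz
  -- `L ∩ M` meets the centre of `M`
  haveI hn : (L.subgroupOf M).Normal := ⟨fun a ha g => mem_subgroupOf.2
    ((mem_normalizer_iff.1 (cent_le_normalizer hTI hx hxz g.2) _).1 (mem_subgroupOf.1 ha))⟩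
  have hne : L.subgroupOf M ≠ ⊥ := fun e => hx (by
    have : (⟨x, mem_cent.2 rfl⟩ : M) ∈ L.subgroupOf M := mem_subgroupOf.2 (mem_cent.2 hxz)
    rw [e, mem_bot] at this
    exact congrArg Subtype.val this)
  set W := (L.subgroupOf M ⊓ center M).map M.subtype with hW
  have hWne : W ≠ ⊥ := fun e => (CfsgLib.Core.inf_center_ne_bot_of_isNilpotent _ hne)
    ((map_eq_bot_iff_of_injective _ M.subtype_injective).1 e)
  have hWL : W ≤ L := by rintro _ ⟨a, ⟨ha, -⟩, rfl⟩; exact mem_subgroupOf.1 ha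
  have hWc : ∀ w ∈ W, M ≤ centralizer ({w} : Set G) := by
    rintro _ ⟨a, ⟨-, ha⟩, rfl⟩ m hm
    exact mem_cent.2 (congrArg Subtype.val (mem_center_iff.1 ha ⟨m, hm⟩))
  -- `L` normalises `W`
  haveI hn2 : (W.subgroupOf L).Normal := ⟨fun a ha g => mem_subgroupOf.2 (by
    obtain ⟨b, ⟨hbL, hbc⟩, hb⟩ := mem_map.1 (mem_subgroupOf.1 ha)
    have hgM : ∀ m, m ∈ M ↔ (g : G) * m * (g : G)⁻¹ ∈ M :=
      fun m => mem_normalizer_iff.1 (cent_le_normalizer hTI hz hxz.symm g.2) m
    have hab : (a : G) ∈ M := hb ▸ b.2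
    refine ⟨⟨_, (hgM _).1 hab⟩, ⟨mem_subgroupOf.2 (mul_mem (mul_mem g.2 a.2) (inv_mem g.2)),
      mem_center_iff.2 fun m => Subtype.ext ?_⟩, rfl⟩
    have hm : (g : G)⁻¹ * m * g ∈ M := (hgM _).2 (by
      rw [show (g : G) * ((g : G)⁻¹ * m * g) * (g : G)⁻¹ = m by group]; exact m.2)
    have e : (g : G)⁻¹ * m * g * a = a * ((g : G)⁻¹ * m * g) := by
      rw [← hb]; exact congrArg Subtype.val (mem_center_iff.1 hbc ⟨_, hm⟩)
    show (m : G) * ((g : G) * a * (g : G)⁻¹) = (g : G) * a * (g : G)⁻¹ * m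
    calc (m : G) * ((g : G) * a * (g : G)⁻¹) = g * ((g : G)⁻¹ * m * g * a) * (g : G)⁻¹ := by group
      _ = g * (a * ((g : G)⁻¹ * m * g)) * (g : G)⁻¹ := by rw [e]
      _ = (g : G) * a * (g : G)⁻¹ * m := by group)⟩
  have hne2 : W.subgroupOf L ≠ ⊥ := fun e => hWne (by
    rw [subgroupOf_eq_bot, disjoint_iff, inf_eq_left.2 hWL] at e; exact e)
  obtain ⟨v, ⟨hvW, hvc⟩, hv1⟩ :=
    (W.subgroupOf L ⊓ center L).bot_or_exists_ne_one.resolve_left (CfsgLib.Core.inf_center_ne_bot_of_isNilpotent _ hne2)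
  have hv' : (v : G) ≠ 1 := fun e => hv1 (Subtype.ext e)
  rw [← hxm _ hv' (hWc _ hvW), hzm _ hv' fun l hl =>
    mem_cent.2 (congrArg Subtype.val (mem_center_iff.1 hvc ⟨l, hl⟩))]

theorem block_unique {M L : Subgroup G} (hM : IsBlock M) (hL : IsBlock L) {y : G} (hy : y ≠ 1)
    (hyM : y ∈ M) (hyL : y ∈ L) : M = L := by
  obtain ⟨K, hK, hle⟩ := exists_block_ge hy
  obtain ⟨w, hw, rfl, hwm⟩ := hK
  have key : ∀ {M : Subgroup G}, IsBlock M → y ∈ M → M = centralizer ({w} : Set G) := by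
    intro M hM hyM
    obtain ⟨x, hx, rfl, hxm⟩ := hM
    exact eq_of_commute hTI hx hw ⟨x, hx, rfl, hxm⟩ ⟨w, hw, rfl, hwm⟩ hxm hwm
      (mem_cent.1 (hle (mem_cent.2 (mem_cent.1 hyM).symm)))
  rw [key hM hyM, key hL hyL]

/-- A block contains the centralisers of its non-identity elements. -/
theorem IsBlock.cent_le {M : Subgroup G} (hM : IsBlock M) {y : G} (hy : y ∈ M) (hy1 : y ≠ 1) :
    centralizer ({y} : Set G) ≤ M := by
  obtain ⟨K, hK, hle⟩ := exists_block_ge hy1
  rwa [block_unique hTI hM hK hy1 hy (hle (mem_cent.2 rfl))]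

theorem IsBlock.isNilpotent {M : Subgroup G} (hM : IsBlock M) : Group.IsNilpotent M := by
  obtain ⟨x, hx, rfl, -⟩ := hM
  exact isNilpotent_cent hTI hx

/-- Blocks are TI. -/
theorem IsBlock.mem_normalizer {M : Subgroup G} (hM : IsBlock M) {g y : G} (hy : y ∈ M) (hy1 : y ≠ 1)
    (hgy : g * y * g⁻¹ ∈ M) : g ∈ normalizer (M : Set G) := by
  obtain ⟨x, hx, rfl, -⟩ := hM
  exact mem_normalizer_cent hTI hy hy1 hgy

/-- Blocks are Hall subgroups. -/
theorem IsBlock.not_dvd_index {M : Subgroup G} (hM : IsBlock M) {p : ℕ} [Fact p.Prime]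
    (hp : p ∣ Nat.card M) : ¬ p ∣ M.index := by
  obtain ⟨⟨y, hyM⟩, hy⟩ := exists_prime_orderOf_dvd_card' (G := M) p hp
  rw [Subgroup.orderOf_mk] at hy
  have hy1 : y ≠ 1 := fun e => (Fact.out : p.Prime).ne_one (by rw [← hy, e, orderOf_one])
  obtain ⟨P, hP⟩ := (IsPGroup.of_card (p := p) (n := 1)
    (by rw [Nat.card_zpowers, hy, pow_one]) : IsPGroup p (zpowers y)).exists_le_sylow
  haveI : Nontrivial (P : Subgroup G) :=
    ⟨⟨⟨y, hP (mem_zpowers y)⟩, 1, fun e => hy1 (congrArg Subtype.val e)⟩⟩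
  haveI := P.isPGroup'.center_nontrivial
  obtain ⟨⟨⟨z, hzP⟩, hzc⟩, hz1⟩ := exists_ne (1 : center (P : Subgroup G))
  have hz1' : z ≠ 1 := fun e => hz1 (Subtype.ext (Subtype.ext e))
  have hzc' : ∀ a ∈ (P : Subgroup G), a * z = z * a := fun a ha =>
    congrArg Subtype.val (mem_center_iff.1 hzc ⟨a, ha⟩)
  have hzM : z ∈ M := hM.cent_le hTI hyM hy1 (mem_cent.2 (hzc' y (hP (mem_zpowers y))).symm)
  have hPM : (P : Subgroup G) ≤ M := fun a ha => hM.cent_le hTI hzM hz1' (mem_cent.2 (hzc' a ha))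
  exact fun h => P.not_dvd_index (h.trans (index_dvd_of_le hPM))

end CfsgLib.PLocal.TICent
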