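import Mathlib
import Cfsg.Prelude.Def_Solvable
import Cfsg.Agent.Lib.PLocal.TICent.Partition
import Cfsg.Agent.Lib.OddLocal.CNSolvable
import Cfsg.Agent.Lib.Core.FrobeniusConj

/-!
# Self-normalising blocks are Frobenius complements

* `complement_structure`: such a block is cyclic or cyclic of odd order times `Q₈`.
* `exists_selfNormalizing`: a normal block forces a self-normalising one.

Owner: helper15.
-/

set_option autoImplicit false
set_option linter.all false

namespace CfsgLib.PLocal.TICent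

open Subgroup
open scoped Pointwise commutatorElement

variable {G : Type*} [Group G] [Finite G] (hTI : TICentralizers G)
include hTI

theorem isFrobeniusComplement_block (hZ : center G = ⊥) {M : Subgroup G} (hM : IsBlock M)
    (hN : normalizer (M : Set G) ≤ M) : Cfsg.IsFrobeniusComplement M := by
  refine ⟨hM.ne_bot, hM.ne_top hZ, fun g hg => ?_⟩
  rw [eq_bot_iff]
  rintro x ⟨hx, hxg⟩
  rw [mem_bot]
  by_contra hx1
  refine hg (inv_mem_iff.1 (hN (hM.mem_normalizer hTI hx hx1 ?_)))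
  rw [inv_inv]
  exact CfsgLib.Core.mem_conj_smul_iff.1 hxg

omit hTI [Finite G] in
theorem quaternion_two_le_one {n : ℕ} (h : ∀ u v : QuaternionGroup (2 ^ n), Commute u (v * u * v⁻¹)) :
    n ≤ 1 := by
  by_contra hn
  push Not at hn
  have h8 : 8 ≤ 2 * 2 ^ n := by
    have := Nat.pow_le_pow_right two_pos hn
    omega
  have := (h (QuaternionGroup.xa 0) (QuaternionGroup.a 1)).eq
  rw [show (QuaternionGroup.a 1 : QuaternionGroup (2 ^ n))⁻¹ = QuaternionGroup.a (-1) from
    inv_eq_of_mul_eq_one_right (by rw [QuaternionGroup.a_mul_a, add_neg_cancel, QuaternionGroup.a_zero])] at this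
  simp only [QuaternionGroup.a_mul_xa, QuaternionGroup.xa_mul_a,
    QuaternionGroup.xa_mul_xa, QuaternionGroup.a.injEq] at this
  have h4 : ((4 : ℕ) : ZMod (2 * 2 ^ n)) = 0 := by
    push_cast
    linear_combination -this
  have := Nat.le_of_dvd (by norm_num) ((ZMod.natCast_eq_zero_iff _ _).1 h4)
  omega

omit hTI in
/-- Cyclic of odd order times `Q₈`. -/
theorem prod_quaternion {M C Q : Subgroup G} (hCQ : C ⊔ Q = M) (hcomm : ∀ a ∈ C, ∀ b ∈ Q, a * b = b * a)
    (hC : IsCyclic C) (hodd : Odd (Nat.card C)) (e : Q ≃* QuaternionGroup 2) :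
    ∃ m : ℕ, Odd m ∧ Nonempty (M ≃* Multiplicative (ZMod m) × QuaternionGroup 2) := by
  refine ⟨Nat.card C, hodd, ?_⟩
  have hCM : C ≤ M := hCQ ▸ le_sup_left
  have hQM : Q ≤ M := hCQ ▸ le_sup_right
  have hQ8 : Nat.card Q = 8 := by
    rw [Nat.card_congr e.toEquiv, Nat.card_eq_fintype_card, QuaternionGroup.card]
  have hinf : ∀ a ∈ C, a ∈ Q → a = 1 := by
    intro a ha haQ
    have h1 := C.orderOf_dvd_natCard ha
    have h2 : orderOf a ∣ 8 := hQ8 ▸ Q.orderOf_dvd_natCard haQ
    have hcop : (Nat.card C).Coprime 8 := by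
      rw [show (8 : ℕ) = 2 ^ 3 by norm_num]
      exact (Nat.prime_two.coprime_iff_not_dvd.2 hodd.not_two_dvd_nat).symm.pow_right 3
    exact orderOf_eq_one_iff.1 (Nat.eq_one_of_dvd_coprimes hcop h1 h2)
  have hc : ∀ (a : C) (b : Q), Commute (inclusion hCM a) (inclusion hQM b) := fun a b =>
    Subtype.ext (hcomm a a.2 b b.2)
  let f : C × Q →* M := MonoidHom.noncommCoprod (inclusion hCM) (inclusion hQM) hc
  have hfv : ∀ x : C × Q, (f x : G) = x.1 * x.2 := fun x => rfl
  have hinj : Function.Injective f := by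
    rintro ⟨a, b⟩ ⟨a', b'⟩ h
    have h' : (a : G) * b = a' * b' := by
      have := congrArg Subtype.val h
      rwa [hfv, hfv] at this
    have e1 : (a' : G)⁻¹ * a = b' * (b : G)⁻¹ := by
      calc (a' : G)⁻¹ * a = (a' : G)⁻¹ * (a * b) * (b : G)⁻¹ := by group
        _ = b' * (b : G)⁻¹ := by rw [h']; group
    have e2 := hinf _ (mul_mem (inv_mem a'.2) a.2) (e1 ▸ mul_mem b'.2 (inv_mem b.2))
    have ha : a = a' := Subtype.ext (inv_mul_eq_one.1 e2).symm
    subst ha
    have hb : b = b' := Subtype.ext (mul_left_cancel h')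
    rw [hb]
  have hsurj : Function.Surjective f := by
    rintro ⟨x, hx⟩
    rw [← hCQ] at hx
    have hle : C ⊔ Q ≤ f.range.map M.subtype := sup_le
      (fun a ha => ⟨f (⟨a, ha⟩, 1), ⟨_, rfl⟩, by
        show (f (⟨a, ha⟩, 1) : G) = a
        rw [hfv, OneMemClass.coe_one, mul_one]⟩)
      (fun b hb => ⟨f (1, ⟨b, hb⟩), ⟨_, rfl⟩, by
        show (f (1, ⟨b, hb⟩) : G) = b
        rw [hfv, OneMemClass.coe_one, one_mul]⟩)
    obtain ⟨_, ⟨y, rfl⟩, hy⟩ := hle hx
    exact ⟨y, Subtype.ext hy⟩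
  exact ⟨(MulEquiv.ofBijective f ⟨hinj, hsurj⟩).symm.trans
    ((zmodCyclicMulEquiv hC).symm.prodCongr e)⟩

/-- A self-normalising block is cyclic or cyclic of odd order times `Q₈`. -/
theorem complement_structure (hZ : center G = ⊥) {M : Subgroup G} (hM : IsBlock M)
    (hN : normalizer (M : Set G) ≤ M) : IsCyclic M ∨
      ∃ m : ℕ, Odd m ∧ Nonempty (M ≃* Multiplicative (ZMod m) × QuaternionGroup 2) := by
  obtain ⟨K, -, hKn, -, hK, hfree⟩ := CfsgLib.Core.FrobeniusConj.exists_kernel (isFrobeniusComplement_block hTI hZ hM hN)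
  haveI := hKn
  haveI hnil := hM.isNilpotent hTI
  have hMK : M ≤ normalizer (K : Set G) := by rw [normalizer_eq_top_iff.2 hKn]; exact le_top
  rcases CfsgLib.OddLocal.CN.nilpotent_fpf_structure hMK hfree hK hnil with h | ⟨C, Q, hCQ, hcomm, hC, hodd, n, ⟨e⟩⟩
  · exact Or.inl h
  have hQM : Q ≤ M := hCQ ▸ le_sup_right
  have hn : n ≤ 1 := by
    refine quaternion_two_le_one fun u v => ?_
    set x : G := ((e.symm u : Q) : G)
    set g : G := ((e.symm v : Q) : G)
    have key : Commute x (g * x * g⁻¹) := by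
      by_cases hx1 : x = 1
      · rw [hx1]; exact Commute.one_left _
      haveI : Nontrivial M := ⟨⟨x, hQM (e.symm u).2⟩, 1, fun h => hx1 (congrArg Subtype.val h)⟩
      haveI : Nontrivial (center M) := by
        rw [nontrivial_iff_ne_bot]
        exact fun hh => CfsgLib.Core.inf_center_ne_bot_of_isNilpotent (⊤ : Subgroup M) top_ne_bot
          (by rw [hh, inf_bot_eq])
      obtain ⟨⟨⟨z, hzM⟩, hzc⟩, hz1⟩ := exists_ne (1 : center M)
      have hz1' : z ≠ 1 := fun h => hz1 (Subtype.ext (Subtype.ext h))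
      have hzc' : ∀ a ∈ M, a * z = z * a := fun a ha =>
        congrArg Subtype.val (mem_center_iff.1 hzc ⟨a, ha⟩)
      have hgN : g ∈ normalizer (centralizer ({x} : Set G) : Set G) :=
        mem_normalizer_cent hTI (mem_cent.2 (hzc' x (hQM (e.symm u).2)).symm) hz1' (by
          rw [hzc' g (hQM (e.symm v).2), mul_inv_cancel_right]
          exact mem_cent.2 (hzc' x (hQM (e.symm u).2)).symm)
      exact (mem_cent.1 ((mem_normalizer_iff.1 hgN x).1 (mem_cent.2 rfl))).symm
    have h2 : Commute (e.symm u) (e.symm v * e.symm u * (e.symm v)⁻¹) := Subtype.ext key.eq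
    have := h2.map e
    simpa using this
  rcases Nat.le_one_iff_eq_zero_or_eq_one.1 hn with rfl | rfl
  · refine Or.inl ?_
    have h4 : IsCyclic Q := e.isCyclic.2 (show IsCyclic (QuaternionGroup 1) from QuaternionGroup.quaternionGroup_one_isCyclic)
    have hab : IsMulCommutative M := by
      refine ⟨⟨fun a b => Subtype.ext ?_⟩⟩
      haveI : IsMulCommutative (C ⊔ Q : Subgroup G) := by
        rw [← Subgroup.closure_eq C, ← Subgroup.closure_eq Q, ← Subgroup.closure_union]
        refine isMulCommutative_closure ?_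
        rintro x (hx | hx) y (hy | hy)
        · exact congrArg Subtype.val ((IsCyclic.commutative (α := C)).is_comm.comm ⟨x, hx⟩ ⟨y, hy⟩)
        · exact hcomm x hx y hy
        · exact (hcomm y hy x hx).symm
        · exact congrArg Subtype.val ((IsCyclic.commutative (α := Q)).is_comm.comm ⟨x, hx⟩ ⟨y, hy⟩)
      have ha : (a : G) ∈ C ⊔ Q := hCQ.symm ▸ a.2
      have hb : (b : G) ∈ C ⊔ Q := hCQ.symm ▸ b.2
      exact (congrArg Subtype.val (this.is_comm.comm ⟨(a : G), ha⟩ ⟨(b : G), hb⟩) : (a : G) * b = b * a)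
    exact CfsgLib.Core.FPF.isCyclic_of_isMulCommutative hMK hfree hK le_rfl
  · exact Or.inr (prod_quaternion hCQ hcomm hC hodd e)

/-- A normal block forces a self-normalising one. -/
theorem exists_selfNormalizing (hZ : center G = ⊥) {M₀ : Subgroup G} (hM₀ : IsBlock M₀) (hn : M₀.Normal) :
    ∃ M : Subgroup G, IsBlock M ∧ normalizer (M : Set G) ≤ M := by
  obtain ⟨x, hx⟩ : ∃ x : G, x ∉ M₀ := by
    by_contra hh
    push Not at hh
    exact hM₀.ne_top hZ (eq_top_iff.2 fun x _ => hh x)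
  obtain ⟨M, hM, hxM⟩ := exists_block_ge (y := x) (fun e => hx (e ▸ one_mem _))
  refine ⟨M, hM, ?_⟩
  by_contra hN
  set A := normalizer (M : Set G) with hA
  -- `A` acts without fixed points on `M₀`
  have hdisj : ∀ a ∈ M₀, a ∈ A → a = 1 := by
    intro a ha haA
    by_contra ha1
    obtain ⟨w, hw, hw1⟩ := M.bot_or_exists_ne_one.resolve_left hM.ne_bot
    have hwm : w ∉ M₀ := fun h => hx (block_unique hTI hM₀ hM hw1 h hw ▸ hxM (mem_cent.2 rfl))
    have h1 : a * w * a⁻¹ * w⁻¹ ∈ M := mul_mem ((mem_normalizer_iff.1 haA w).1 hw) (inv_mem hw)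
    have h2 : a * w * a⁻¹ * w⁻¹ ∈ M₀ := by
      rw [show a * w * a⁻¹ * w⁻¹ = a * (w * a⁻¹ * w⁻¹) by group]
      exact mul_mem ha (hn.conj_mem _ (inv_mem ha) w)
    by_cases h3 : a * w * a⁻¹ * w⁻¹ = 1
    · exact hwm (hM₀.cent_le hTI ha ha1 (mem_cent.2 (by
        calc w * a = (a * w * a⁻¹ * w⁻¹)⁻¹ * (a * w) := by group
          _ = a * w := by rw [h3, inv_one, one_mul])))
    · exact hwm ((block_unique hTI hM₀ hM h3 h2 h1) ▸ hw)
  have hfree : ∀ a ∈ A, a ≠ 1 → M₀ ⊓ centralizer {a} = ⊥ := by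
    intro a ha ha1
    rw [eq_bot_iff]
    rintro b ⟨hb, hba⟩
    rw [mem_bot]
    by_contra hb1
    exact ha1 (hdisj a (hM₀.cent_le hTI hb hb1 (mem_cent.2 (mem_cent.1 hba).symm)) ha)
  have hAK : A ≤ normalizer (M₀ : Set G) := by rw [normalizer_eq_top_iff.2 hn]; exact le_top
  have hK : M₀ ≠ ⊥ := hM₀.ne_bot
  -- the centre of `M`
  haveI hnil := hM.isNilpotent hTI
  set Z := (center M).map M.subtype with hZdef
  have hZM : Z ≤ M := map_subtype_le _
  haveI : IsMulCommutative Z := ⟨⟨fun a b => Subtype.ext (by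
    obtain ⟨u, hu, hu'⟩ := mem_map.1 a.2
    obtain ⟨v, hv, hv'⟩ := mem_map.1 b.2
    show (a : G) * b = b * a
    rw [← hu', ← hv', ← map_mul, ← map_mul, mem_center_iff.1 hv u])⟩⟩
  haveI : IsCyclic Z := CfsgLib.Core.FPF.isCyclic_of_isMulCommutative hAK hfree hK (hZM.trans le_normalizer)
  obtain ⟨y, hy, hyM⟩ := SetLike.not_le_iff_exists.1 hN
  -- an element of prime order modulo `M`
  have hidx : M.relIndex A ≠ 1 := fun h => hN (relIndex_eq_one.1 h)
  obtain ⟨q, hq, hqd⟩ := Nat.exists_prime_and_dvd hidx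
  haveI := Fact.mk hq
  obtain ⟨⟨d, hdA⟩, hd⟩ := exists_prime_orderOf_dvd_card' (G := A) q
    (hqd.trans (Subgroup.relIndex_dvd_card M A))
  rw [Subgroup.orderOf_mk] at hd
  have hdM : d ∉ M := fun h => hM.not_dvd_index hTI (hd ▸ M.orderOf_dvd_natCard h)
    (hqd.trans (relIndex_dvd_index_of_le le_normalizer))
  have hZne : Z ≠ ⊥ := fun e => by
    have h1 := (map_eq_bot_iff_of_injective _ M.subtype_injective).1 e
    haveI : Nontrivial M := nontrivial_iff_ne_bot M |>.2 hM.ne_bot
    exact CfsgLib.Core.inf_center_ne_bot_of_isNilpotent (⊤ : Subgroup M) top_ne_bot (by rw [h1, inf_bot_eq])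
  obtain ⟨p, hp, hpd⟩ := Nat.exists_prime_and_dvd (n := Nat.card Z) (fun e => hZne (Subgroup.card_eq_one.1 e))
  haveI := Fact.mk hp
  obtain ⟨⟨z, hzZ⟩, hz⟩ := exists_prime_orderOf_dvd_card' (G := Z) p hpd
  rw [Subgroup.orderOf_mk] at hz
  have hz1 : z ≠ 1 := fun e => hp.ne_one (by rw [← hz, e, orderOf_one])
  have hdz : d ∈ normalizer (zpowers z : Set G) := by
    refine mem_normalizer_iff.2 fun w => ?_
    have hin : d * z * d⁻¹ ∈ Z := by
      obtain ⟨c, hc, hce⟩ := mem_map.1 hzZ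
      have hmem : ∀ m, m ∈ M ↔ d * m * d⁻¹ ∈ M := fun m => mem_normalizer_iff.1 hdA m
      refine ⟨⟨_, (hmem z).1 (hZM hzZ)⟩, mem_center_iff.2 fun m => Subtype.ext ?_, rfl⟩
      have hm : d⁻¹ * m * d ∈ M := (hmem _).2 (by
        rw [show d * (d⁻¹ * m * d) * d⁻¹ = (m : G) by group]; exact m.2)
      have e1 : d⁻¹ * m * d * z = z * (d⁻¹ * m * d) := by
        rw [← hce]; exact congrArg Subtype.val (mem_center_iff.1 hc ⟨_, hm⟩)
      show (m : G) * (d * z * d⁻¹) = d * z * d⁻¹ * m
      calc (m : G) * (d * z * d⁻¹) = d * (d⁻¹ * m * d * z) * d⁻¹ := by group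
        _ = d * (z * (d⁻¹ * m * d)) * d⁻¹ := by rw [e1]
        _ = d * z * d⁻¹ * m := by group
    have hsame : zpowers (d * z * d⁻¹) = zpowers z := by
      have h1 : zpowers (⟨_, hin⟩ : Z) = zpowers (⟨z, hzZ⟩ : Z) := by
        classical
        haveI := Fintype.ofFinite Z
        have ho : orderOf (⟨z, hzZ⟩ : Z) = p := by rw [Subgroup.orderOf_mk, hz]
        have ho' : orderOf (⟨_, hin⟩ : Z) = p := by
          rw [Subgroup.orderOf_mk, ← hz]
          exact orderOf_injective (MulAut.conj d).toMonoidHom (MulAut.conj d).injective z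
        set S := Finset.univ.filter fun w : Z => w ^ p = 1
        have hS : S.card ≤ p := IsCyclic.card_pow_eq_one_le hp.pos
        have key : ∀ w : Z, orderOf w = p → (zpowers w : Set Z) = S := by
          intro w hw
          refine Set.eq_of_subset_of_ncard_le (fun u hu => ?_) ?_
          · obtain ⟨k, rfl⟩ := mem_zpowers_iff.1 hu
            simp only [S, Finset.coe_filter, Finset.mem_univ, true_and, Set.mem_setOf_eq]
            rw [← hw, ← zpow_natCast, zpow_comm, zpow_natCast, pow_orderOf_eq_one, one_zpow]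
          · rw [Set.ncard_coe_finset, ← Nat.card_coe_set_eq]
            exact hS.trans (by rw [SetLike.coe_sort_coe, Nat.card_zpowers, hw])
        exact SetLike.coe_injective ((key _ ho').trans (key _ ho).symm)
      have := congrArg (Subgroup.map Z.subtype) h1
      rwa [MonoidHom.map_zpowers, MonoidHom.map_zpowers] at this
    constructor
    · intro hw
      obtain ⟨k, rfl⟩ := mem_zpowers_iff.1 hw
      rw [← hsame, ← conj_zpow]
      exact zpow_mem (mem_zpowers _) k
    · intro hw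
      rw [← hsame] at hw
      obtain ⟨k, hk⟩ := mem_zpowers_iff.1 hw
      rw [conj_zpow] at hk
      rw [← mul_left_cancel (mul_right_cancel hk)]
      exact zpow_mem (mem_zpowers _) k
  have hdz' : Commute d z := CfsgLib.Core.FPF.commute_of_prime_orders hAK hfree hK hdA
    (le_normalizer (hZM hzZ)) (hd.symm ▸ hq) (hz.symm ▸ hp) hdz
  exact hdM (hM.cent_le hTI (hZM hzZ) hz1 (mem_cent.2 hdz'.eq))

/-- A solvable group without centre has a normal block. -/
theorem exists_normal_block [Nontrivial G] [Group.IsSolvable G] : ∃ M : Subgroup G, IsBlock M ∧ M.Normal := by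
  haveI : Finite (Subgroup G) := Finite.of_injective (fun K : Subgroup G => (K : Set G)) SetLike.coe_injective
  obtain ⟨A, ⟨hAb, hAn⟩, hmin⟩ := (Set.toFinite {A : Subgroup G | A ≠ ⊥ ∧ A.Normal}).exists_minimal
    ⟨⊤, top_ne_bot, inferInstance⟩
  haveI := hAn
  have hder : commutator A = ⊥ := by
    by_contra hne
    have hne' : (commutator A).map A.subtype ≠ ⊥ := fun e =>
      hne ((map_eq_bot_iff_of_injective _ A.subtype_injective).1 e)
    have hn' : ((commutator A).map A.subtype).Normal := inferInstance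
    have h1 : A ≤ (commutator A).map A.subtype := hmin ⟨hne', hn'⟩ (map_subtype_le _)
    haveI : Nontrivial A := nontrivial_iff_ne_bot A |>.2 hAb
    have h2 : commutator A = ⊤ := by
      rw [eq_top_iff]
      intro a _
      obtain ⟨b, hb, hba⟩ := h1 a.2
      rwa [show b = a from Subtype.ext hba] at hb
    exact (Group.IsSolvable.commutator_lt_top_of_nontrivial (G := A)).ne h2
  have hcomm : ∀ a ∈ A, ∀ b ∈ A, a * b = b * a := by
    intro a ha b hb
    have h1 : ⁅(⟨a, ha⟩ : A), (⟨b, hb⟩ : A)⁆ ∈ commutator A :=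
      commutator_mem_commutator (mem_top _) (mem_top _)
    rw [hder, mem_bot] at h1
    exact congrArg Subtype.val (commutatorElement_eq_one_iff_mul_comm.1 h1)
  obtain ⟨a, ha, ha1⟩ := A.bot_or_exists_ne_one.resolve_left hAb
  obtain ⟨M, hM, haM⟩ := exists_block_ge ha1
  refine ⟨M, hM, ⟨fun m hm g => ?_⟩⟩
  have hAM : ∀ b ∈ A, b ∈ M := fun b hb => haM (mem_cent.2 (hcomm b hb a ha))
  exact (mem_normalizer_iff.1 (hM.mem_normalizer hTI (hAM a ha) ha1 (hAM _ (hAn.conj_mem a ha g))) m).1 hm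

end CfsgLib.PLocal.TICent
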