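import Mathlib
import Cfsg.Agent.Lib.TwoGroups.StrongEmbedding
import Cfsg.Agent.Lib.PLocal.TICent.Partition
import Cfsg.Agent.Lib.Perm.ZassenhausAbelianBound
import Cfsg.Agent.Lib.Perm.ZassenhausNormal

/-!
# TI centralisers in even order: a Zassenhaus group

Adapted from `Lib/PLocal/CAGroup` (helper10), where the centralisers of involutions are abelian;
here they only are blocks.

Owner: helper15.
-/

set_option autoImplicit false
set_option linter.all false

namespace CfsgLib.PLocal.TICent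

open Subgroup

section

variable {G : Type*} [Group G]

/-- TI centralisers, and the centraliser of every involution is a block. -/
structure EvenHyp (G : Type*) [Group G] : Prop where
  ti : TICentralizers G
  block : ∀ t : G, orderOf t = 2 → IsBlock (centralizer ({t} : Set G))

theorem inv_eq_self {t : G} (ht : orderOf t = 2) : t⁻¹ = t :=
  inv_eq_of_mul_eq_one_left (by rw [← pow_two, ← ht, pow_orderOf_eq_one])

theorem mul_self_eq_one {t : G} (ht : orderOf t = 2) : t * t = 1 := by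
  rw [← pow_two, ← ht, pow_orderOf_eq_one]

/-- Commuting involutions have the same centraliser. -/
theorem cent_eq [Finite G] (hA : EvenHyp G) {s t : G} (hs : orderOf s = 2) (ht : orderOf t = 2)
    (h : s * t = t * s) : centralizer ({s} : Set G) = centralizer ({t} : Set G) :=
  block_unique hA.ti (hA.block s hs) (hA.block t ht) (y := t)
    (fun e => by rw [e, orderOf_one] at ht; omega) (mem_cent.2 h.symm) (mem_cent.2 rfl)

theorem conj_mem_cent {t x : G} (g : G) :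
    g * x * g⁻¹ ∈ centralizer ({g * t * g⁻¹} : Set G) ↔ x ∈ centralizer ({t} : Set G) := by
  simp only [mem_cent]
  constructor
  · intro h
    calc x * t = g⁻¹ * (g * x * g⁻¹ * (g * t * g⁻¹)) * g := by group
      _ = t * x := by rw [h]; group
  · intro h
    calc g * x * g⁻¹ * (g * t * g⁻¹) = g * (x * t) * g⁻¹ := by group
      _ = g * t * g⁻¹ * (g * x * g⁻¹) := by rw [h]; group

/-- An element of even order has a power of order two. -/
theorem exists_pow_two {x : G} [Finite G] (h : 2 ∣ orderOf x) : orderOf (x ^ (orderOf x / 2)) = 2 := by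
  have h0 := orderOf_pos x
  rw [orderOf_pow_of_dvd (by omega) (Nat.div_dvd_of_dvd h), Nat.div_div_self h h0.ne']

theorem mul_pow_inverted {i n : G} (h : i * n * i⁻¹ = n⁻¹) (k : ℕ) :
    i * n ^ k * i⁻¹ = (n ^ k)⁻¹ := by
  rw [← conj_pow, h, inv_pow]

variable [Finite G]

/-- The centraliser of an involution contains a Sylow `2`-subgroup. -/
theorem exists_sylow_le (hA : EvenHyp G) {t : G} (ht : orderOf t = 2) :
    ∃ S : Sylow 2 G, (S : Subgroup G) ≤ centralizer ({t} : Set G) := by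
  haveI : Fact (Nat.Prime 2) := ⟨Nat.prime_two⟩
  have hp : IsPGroup 2 ↥(zpowers t) := IsPGroup.of_card (n := 1) (by rw [Nat.card_zpowers, ht, pow_one])
  obtain ⟨S, hS⟩ := hp.exists_le_sylow
  have htS : t ∈ (S : Subgroup G) := hS (mem_zpowers t)
  haveI : Nontrivial ↥(S : Subgroup G) :=
    ⟨⟨⟨t, htS⟩, 1, fun e => by
      have : t = 1 := congrArg Subtype.val e
      rw [this, orderOf_one] at ht; omega⟩⟩
  haveI := S.2.center_nontrivial
  obtain ⟨z, hz⟩ := exists_ne (1 : ↥(center ↥(S : Subgroup G)))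
  have hz2 : 2 ∣ orderOf (z : ↥(S : Subgroup G)) := by
    obtain ⟨k, hk⟩ := (IsPGroup.iff_orderOf.mp S.2) (z : ↥(S : Subgroup G))
    rcases k with _ | k
    · exact absurd (orderOf_eq_one_iff.1 (hk.trans (pow_zero 2))) (fun e => hz (Subtype.ext e))
    · exact hk ▸ dvd_pow_self 2 k.succ_ne_zero
  set u : ↥(S : Subgroup G) := (z : ↥(S : Subgroup G)) ^ (orderOf (z : ↥(S : Subgroup G)) / 2) with hu
  have hu2 : orderOf (u : G) = 2 := by rw [orderOf_coe, hu]; exact exists_pow_two hz2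
  have huc : u ∈ center ↥(S : Subgroup G) := pow_mem z.2 _
  have hle : (S : Subgroup G) ≤ centralizer ({(u : G)} : Set G) := fun x hx =>
    mem_cent.2 (congrArg Subtype.val (mem_center_iff.1 huc ⟨x, hx⟩))
  refine ⟨S, ?_⟩
  rw [← cent_eq hA hu2 ht (mem_cent.1 (hle htS)).symm]
  exact hle

/-- The index of the centraliser of an involution is odd. -/
theorem odd_index (hA : EvenHyp G) {t : G} (ht : orderOf t = 2) :
    ¬ 2 ∣ (centralizer ({t} : Set G)).index := by
  haveI : Fact (Nat.Prime 2) := ⟨Nat.prime_two⟩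
  obtain ⟨S, hS⟩ := exists_sylow_le hA ht
  exact fun h => S.not_dvd_index (h.trans (index_dvd_of_le hS))

variable (t0 : G)

/-- The centraliser of `t0`. -/
abbrev A : Subgroup G := centralizer ({t0} : Set G)

/-- The normaliser of the centraliser of `t0`. -/
abbrev N : Subgroup G := normalizer (A t0 : Set G)

omit [Finite G] in
theorem t0_mem : t0 ∈ A t0 := mem_cent.2 rfl

omit [Finite G] in
theorem A_le_N : A t0 ≤ N t0 := le_normalizer

variable {t0}

/-- `g` lies in `N` as soon as it conjugates an involution of `A` into `A`. -/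
theorem mem_N (hA : EvenHyp G) (h0 : orderOf t0 = 2) {s g : G} (hs : orderOf s = 2) (hsA : s ∈ A t0)
    (hgs : g * s * g⁻¹ ∈ A t0) : g ∈ N t0 := by
  have e1 : centralizer ({s} : Set G) = A t0 := cent_eq hA hs h0 (mem_cent.1 hsA)
  have e2 : centralizer ({g * s * g⁻¹} : Set G) = A t0 :=
    cent_eq hA (by rwa [orderOf_conj']) h0 (mem_cent.1 hgs)
  refine mem_normalizer_iff.2 fun x => ?_
  conv_lhs => rw [← e1, ← conj_mem_cent g, e2]
where
  orderOf_conj' {g s : G} : orderOf (g * s * g⁻¹) = orderOf s :=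
    orderOf_injective (MulAut.conj g).toMonoidHom (MulAut.conj g).injective s

/-- An element of `N` whose order is a power of two lies in `A`. -/
theorem mem_A_of_two (hA : EvenHyp G) (h0 : orderOf t0 = 2) {x : G} (hx : x ∈ N t0) (hx2 : orderOf x = 2) :
    x ∈ A t0 := by
  haveI : ((A t0).subgroupOf (N t0)).Normal := (normal_subgroupOf_iff_le_normalizer (A_le_N t0)).2 le_rfl
  have hodd : ¬ 2 ∣ (A t0).relIndex (N t0) := fun h =>
    odd_index hA h0 (h.trans (relIndex_dvd_index_of_le (A_le_N t0)))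
  have h1 : (⟨x, hx⟩ : N t0) ^ (A t0).relIndex (N t0) ∈ (A t0).subgroupOf (N t0) :=
    pow_index_mem _ _
  rw [mem_subgroupOf, coe_pow] at h1
  obtain ⟨k, hk⟩ : ∃ k, (A t0).relIndex (N t0) = 2 * k + 1 := ⟨_, (Nat.div_add_mod _ 2).symm.trans
    (by rw [Nat.two_dvd_ne_zero.1 hodd])⟩
  rwa [hk, pow_succ, pow_mul, ← hx2, pow_orderOf_eq_one, one_pow, one_mul] at h1

/-- An involution of `A` is conjugate to every involution outside `N`, in any subgroup containing
both. -/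
theorem exists_conj_outside (hA : EvenHyp G) (h0 : orderOf t0 = 2) {s t : G} (hs : orderOf s = 2)
    (hsA : s ∈ A t0) (ht : orderOf t = 2) (htN : t ∉ N t0) :
    ∃ g ∈ closure ({s, t} : Set G), g * s * g⁻¹ = t := by
  have hodd : ¬ 2 ∣ orderOf (s * t) := by
    intro h
    have hu := exists_pow_two h
    set u := (s * t) ^ (orderOf (s * t) / 2) with hu'
    have hsu : s * (s * t) * s⁻¹ = (s * t)⁻¹ := by
      rw [mul_inv_rev, inv_eq_self hs, inv_eq_self ht, ← mul_assoc s s t, mul_self_eq_one hs, one_mul]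
    have htu : t * (s * t) * t⁻¹ = (s * t)⁻¹ := by
      rw [mul_inv_rev, inv_eq_self hs, inv_eq_self ht]
      simp only [mul_assoc, mul_self_eq_one ht, mul_one]
    have h1 : s * u = u * s := by
      have := mul_pow_inverted hsu (orderOf (s * t) / 2)
      rwa [← hu', inv_eq_self hu, mul_inv_eq_iff_eq_mul] at this
    have h2 : t * u = u * t := by
      have := mul_pow_inverted htu (orderOf (s * t) / 2)
      rwa [← hu', inv_eq_self hu, mul_inv_eq_iff_eq_mul] at this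
    have htA : t ∈ A t0 := by
      rw [← (show centralizer ({u} : Set G) = A t0 from (cent_eq hA hu hs h1.symm).trans (cent_eq hA hs h0 (mem_cent.1 hsA)))]
      exact mem_cent.2 h2
    exact htN (A_le_N t0 htA)
  obtain ⟨k, hk⟩ : ∃ k, orderOf (s * t) = 2 * k + 1 := ⟨_, (Nat.div_add_mod _ 2).symm.trans
    (by rw [Nat.two_dvd_ne_zero.1 hodd])⟩
  refine ⟨((s * t) ^ (k + 1))⁻¹, inv_mem (pow_mem (mul_mem (subset_closure (by simp))
    (subset_closure (by simp))) _), ?_⟩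
  have hsx : s * (s * t) * s⁻¹ = (s * t)⁻¹ := by
    rw [mul_inv_rev, inv_eq_self hs, inv_eq_self ht, ← mul_assoc s s t, mul_self_eq_one hs, one_mul]
  have h1 := mul_pow_inverted hsx (k + 1)
  rw [mul_inv_eq_iff_eq_mul] at h1
  have e : (s * t) ^ (k + 1) * (s * t) ^ (k + 1) = s * t := by
    rw [← pow_add, show k + 1 + (k + 1) = orderOf (s * t) + 1 by omega, pow_succ, pow_orderOf_eq_one,
      one_mul]
  calc ((s * t) ^ (k + 1))⁻¹ * s * ((s * t) ^ (k + 1))⁻¹⁻¹
      = s * ((s * t) ^ (k + 1) * (s * t) ^ (k + 1)) := by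
        rw [inv_inv, ← h1, mul_assoc]
    _ = t := by rw [e, ← mul_assoc, mul_self_eq_one hs, one_mul]

section NotNormal

variable (hA : EvenHyp G) (h0 : orderOf t0 = 2) (hN : N t0 ≠ ⊤)

include hA h0 hN

theorem exists_outside : ∃ t : G, orderOf t = 2 ∧ t ∉ N t0 := by
  obtain ⟨g, hg⟩ : ∃ g, g ∉ N t0 := by
    by_contra hc; exact hN (eq_top_iff' _ |>.2 (by push Not at hc; exact hc))
  have hg2 : orderOf (g * t0 * g⁻¹) = 2 :=
    (orderOf_injective (MulAut.conj g).toMonoidHom (MulAut.conj g).injective t0).trans h0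
  exact ⟨_, hg2, fun h => hg (mem_N hA h0 h0 (t0_mem t0) (mem_A_of_two hA h0 h hg2))⟩

/-- All involutions are conjugate. -/
theorem exists_conj {s : G} (hs : orderOf s = 2) : ∃ g, g * t0 * g⁻¹ = s := by
  obtain ⟨t, ht, htN⟩ := exists_outside hA h0 hN
  by_cases hsN : s ∈ N t0
  · obtain ⟨g, -, hg⟩ := exists_conj_outside hA h0 h0 (t0_mem t0) ht htN
    obtain ⟨k, -, hk⟩ := exists_conj_outside hA h0 hs (mem_A_of_two hA h0 hsN hs) ht htN
    exact ⟨k⁻¹ * g, by rw [← hg] at hk; calc k⁻¹ * g * t0 * (k⁻¹ * g)⁻¹ = k⁻¹ * (g * t0 * g⁻¹) * k := by group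
      _ = s := by rw [← hk]; group⟩
  · obtain ⟨g, -, hg⟩ := exists_conj_outside hA h0 h0 (t0_mem t0) hs hsN
    exact ⟨g, hg⟩

/-- The number of involutions is the index of `A`. -/
theorem card_involutions : Nat.card {x : G // orderOf x = 2} = (A t0).index := by
  rw [Subgroup.index]
  refine (Nat.card_eq_of_bijective
    (fun q : G ⧸ A t0 => (⟨q.out * t0 * q.out⁻¹,
      (orderOf_injective (MulAut.conj q.out).toMonoidHom (MulAut.conj q.out).injective t0).trans h0⟩ :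
      {x : G // orderOf x = 2})) ⟨fun q q' h => ?_, fun x => ?_⟩).symm
  · have h' : q.out * t0 * q.out⁻¹ = q'.out * t0 * q'.out⁻¹ := congrArg Subtype.val h
    rw [← q.out_eq', ← q'.out_eq', QuotientGroup.eq]
    refine mem_cent.2 ?_
    calc q.out⁻¹ * q'.out * t0 = q.out⁻¹ * (q'.out * t0 * q'.out⁻¹) * q'.out := by group
      _ = q.out⁻¹ * (q.out * t0 * q.out⁻¹) * q'.out := by rw [h']
      _ = t0 * (q.out⁻¹ * q'.out) := by group
  · obtain ⟨g, hg⟩ := exists_conj hA h0 hN x.2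
    refine ⟨(g : G ⧸ A t0), Subtype.ext ?_⟩
    obtain ⟨⟨c, hc⟩, hcg⟩ := QuotientGroup.mk_out_eq_mul (A t0) g
    show ((g : G ⧸ A t0)).out * t0 * ((g : G ⧸ A t0)).out⁻¹ = x
    rw [hcg, ← hg]
    calc g * c * t0 * (g * c)⁻¹ = g * (c * t0) * c⁻¹ * g⁻¹ := by group
      _ = g * t0 * g⁻¹ := by rw [mem_cent.1 hc]; group

/-- The involutions of `N` are those of `A`, and `N` is transitive on them. -/
theorem card_involutions_N :
    Nat.card {x : G // orderOf x = 2 ∧ x ∈ N t0} = (A t0).relIndex (N t0) := by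
  rw [Subgroup.relIndex, Subgroup.index]
  have hmem : ∀ n : N t0, (n : G) * t0 * (n : G)⁻¹ ∈ A t0 := fun n =>
    (mem_normalizer_iff.1 n.2 t0).1 (t0_mem t0)
  refine (Nat.card_eq_of_bijective
    (fun q : N t0 ⧸ (A t0).subgroupOf (N t0) => (⟨(q.out : G) * t0 * (q.out : G)⁻¹,
      (orderOf_injective (MulAut.conj (q.out : G)).toMonoidHom (MulAut.conj (q.out : G)).injective t0).trans h0,
      A_le_N t0 (hmem q.out)⟩ : {x : G // orderOf x = 2 ∧ x ∈ N t0})) ⟨fun q q' h => ?_, fun x => ?_⟩).symm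
  · have h' : (q.out : G) * t0 * (q.out : G)⁻¹ = (q'.out : G) * t0 * (q'.out : G)⁻¹ :=
      congrArg Subtype.val h
    rw [← q.out_eq', ← q'.out_eq', QuotientGroup.eq, mem_subgroupOf]
    refine mem_cent.2 ?_
    simp only [coe_mul, coe_inv]
    calc (q.out : G)⁻¹ * q'.out * t0
        = (q.out : G)⁻¹ * ((q'.out : G) * t0 * (q'.out : G)⁻¹) * q'.out := by group
      _ = (q.out : G)⁻¹ * ((q.out : G) * t0 * (q.out : G)⁻¹) * q'.out := by rw [h']
      _ = t0 * ((q.out : G)⁻¹ * q'.out) := by group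
  · obtain ⟨g, hg⟩ := exists_conj hA h0 hN x.2.1
    have hgN : g ∈ N t0 := mem_N hA h0 h0 (t0_mem t0) (hg ▸ mem_A_of_two hA h0 x.2.2 x.2.1)
    refine ⟨((⟨g, hgN⟩ : N t0) : N t0 ⧸ (A t0).subgroupOf (N t0)), Subtype.ext ?_⟩
    obtain ⟨⟨c, hc⟩, hcg⟩ := QuotientGroup.mk_out_eq_mul ((A t0).subgroupOf (N t0)) ⟨g, hgN⟩
    simp only
    rw [hcg, coe_mul, ← hg]
    calc g * (c : G) * t0 * (g * (c : G))⁻¹ = g * ((c : G) * t0) * (c : G)⁻¹ * g⁻¹ := by group
      _ = g * t0 * g⁻¹ := by rw [mem_cent.1 (mem_subgroupOf.1 hc)]; group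

/-- An element of `A` inverted by an involution outside `N` is trivial. -/
theorem eq_one_of_inverted {i n : G} (hi : orderOf i = 2) (hiN : i ∉ N t0) (hn : n ∈ A t0)
    (hin : i * n * i⁻¹ = n⁻¹) : n = 1 := by
  by_contra hn1
  exact hiN ((hA.block t0 h0).mem_normalizer hA.ti hn hn1 (by rw [hin]; exact inv_mem hn))

/-- Each coset `g A` outside `N` contains exactly one involution. -/
theorem existsUnique_involution {g : G} (hg : g ∉ N t0) :
    ∃! j : G, orderOf j = 2 ∧ g⁻¹ * j ∈ A t0 := by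
  classical
  have hout : ∀ {g j : G}, g ∉ N t0 → g⁻¹ * j ∈ A t0 → j ∉ N t0 := by
    intro g j hg hj hjN
    exact hg (by
      have := mul_mem hjN (inv_mem (A_le_N t0 hj))
      simpa using this)
  have huniq : ∀ i j : G, orderOf i = 2 → orderOf j = 2 → i ∉ N t0 → i⁻¹ * j ∈ A t0 → i = j := by
    intro i j hi hj hiN h
    refine inv_mul_eq_one.1 (eq_one_of_inverted hA h0 hN hi hiN h ?_)
    rw [mul_inv_rev, inv_inv, inv_eq_self hj, inv_eq_self hi]
    simp only [← mul_assoc, mul_self_eq_one hi, one_mul]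
  refine ?_
  let f : {x : G // orderOf x = 2 ∧ x ∉ N t0} → {q : G ⧸ A t0 // ∀ x ∈ N t0, (x : G ⧸ A t0) ≠ q} :=
    fun x => ⟨(x.1 : G ⧸ A t0), fun y hy h => x.2.2 (by
      have := mul_mem hy (A_le_N t0 (QuotientGroup.eq.1 h))
      simpa using this)⟩
  have hf : Function.Injective f := fun x y h =>
    Subtype.ext (huniq x y x.2.1 y.2.1 x.2.2 (QuotientGroup.eq.1 (congrArg Subtype.val h)))
  have hc1 : Nat.card {x : G // orderOf x = 2 ∧ x ∉ N t0} + (A t0).relIndex (N t0) = (A t0).index := by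
    rw [← card_involutions hA h0 hN, ← card_involutions_N hA h0 hN, ← Nat.card_sum]
    refine Nat.card_congr (Equiv.trans ?_ (Equiv.sumCompl fun x : {x : G // orderOf x = 2} => x.1 ∉ N t0))
    exact
      { toFun := fun x => x.elim (fun a => Sum.inl ⟨⟨a.1, a.2.1⟩, a.2.2⟩)
          (fun a => Sum.inr ⟨⟨a.1, a.2.1⟩, not_not.2 a.2.2⟩)
        invFun := fun x => x.elim (fun a => Sum.inl ⟨a.1.1, a.1.2, a.2⟩)
          (fun a => Sum.inr ⟨a.1.1, a.1.2, not_not.1 a.2⟩)
        left_inv := fun x => by rcases x with a | a <;> rfl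
        right_inv := fun x => by rcases x with a | a <;> rfl }
  have hc2 : Nat.card {q : G ⧸ A t0 // ∀ x ∈ N t0, (x : G ⧸ A t0) ≠ q} + (A t0).relIndex (N t0) =
      (A t0).index := by
    conv_rhs => rw [Subgroup.index, ← Nat.card_congr
      (Equiv.sumCompl fun q : G ⧸ A t0 => ∀ x ∈ N t0, (x : G ⧸ A t0) ≠ q), Nat.card_sum]
    congr 1
    rw [Subgroup.relIndex, Subgroup.index]
    refine Nat.card_eq_of_bijective
      (fun q : N t0 ⧸ (A t0).subgroupOf (N t0) =>
        (⟨((q.out : G) : G ⧸ A t0), fun h => h q.out q.out.2 rfl⟩ :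
          {q : G ⧸ A t0 // ¬ ∀ x ∈ N t0, (x : G ⧸ A t0) ≠ q}))
      ⟨fun q q' h => ?_, fun x => ?_⟩
    · rw [← q.out_eq', ← q'.out_eq', QuotientGroup.eq, mem_subgroupOf]
      simpa using QuotientGroup.eq.1 (congrArg Subtype.val h)
    · obtain ⟨y, hy⟩ := not_forall.1 x.2
      rw [Classical.not_imp, not_not] at hy
      refine ⟨((⟨y, hy.1⟩ : N t0) : N t0 ⧸ (A t0).subgroupOf (N t0)), Subtype.ext ?_⟩
      obtain ⟨⟨c, hc⟩, hcg⟩ := QuotientGroup.mk_out_eq_mul ((A t0).subgroupOf (N t0)) ⟨y, hy.1⟩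
      show ((((⟨y, hy.1⟩ : N t0) : N t0 ⧸ (A t0).subgroupOf (N t0)).out : G) : G ⧸ A t0) = x.1
      rw [hcg]
      exact (QuotientGroup.mk_mul_of_mem y (mem_subgroupOf.1 hc)).trans hy.2
  have hbij := hf.bijective_of_nat_card_le (by omega)
  obtain ⟨⟨j, hj, hjN⟩, hje⟩ := hbij.2 ⟨(g : G ⧸ A t0), fun y hy h => hg (by
    have := mul_mem hy (A_le_N t0 (QuotientGroup.eq.1 h))
    simpa using this)⟩
  have hje' : g⁻¹ * j ∈ A t0 := QuotientGroup.eq.1 (congrArg Subtype.val hje).symm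
  refine ⟨j, ⟨hj, hje'⟩, fun k hk => ?_⟩
  refine huniq k j hk.1 hj (hout hg hk.2) ?_
  have := mul_mem (inv_mem hk.2) hje'
  simpa [mul_assoc] using this

end NotNormal


end

section

variable {G : Type*} [Group G] [Finite G]

/-- An involution centralising no non-identity element of a normalised finite subgroup inverts it. -/
theorem inverted_of_fpf {i : G} (hi : orderOf i = 2) (B : Subgroup G)
    (hB : ∀ x ∈ B, i * x * i⁻¹ ∈ B) (hfree : ∀ x ∈ B, i * x * i⁻¹ = x → x = 1) :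
    ∀ x ∈ B, i * x * i⁻¹ = x⁻¹ := by
  let f : B → B := fun y => ⟨(y : G)⁻¹ * (i * y * i⁻¹), mul_mem (inv_mem y.2) (hB y y.2)⟩
  have hf : Function.Injective f := fun y y' e => Subtype.ext (by
    have e' : (y : G)⁻¹ * (i * y * i⁻¹) = (y' : G)⁻¹ * (i * y' * i⁻¹) := congrArg Subtype.val e
    refine (mul_inv_eq_one.1 (hfree _ (mul_mem y'.2 (inv_mem y.2)) ?_)).symm
    calc i * ((y' : G) * (y : G)⁻¹) * i⁻¹
        = (y' : G) * ((y' : G)⁻¹ * (i * y' * i⁻¹)) * ((y : G) * ((y : G)⁻¹ * (i * y * i⁻¹)))⁻¹ := by group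
      _ = (y' : G) * (y : G)⁻¹ := by rw [← e']; group)
  intro x hx
  obtain ⟨y, hy⟩ := (Finite.injective_iff_surjective.1 hf) ⟨x, hx⟩
  have hy' : x = (y : G)⁻¹ * (i * y * i⁻¹) := (congrArg Subtype.val hy).symm
  have hii : i * i * (y : G) * (i * i)⁻¹ = y := by rw [mul_self_eq_one hi, inv_one, mul_one, one_mul]
  rw [hy']
  calc i * ((y : G)⁻¹ * (i * y * i⁻¹)) * i⁻¹ = i * (y : G)⁻¹ * i⁻¹ * (i * i * y * (i * i)⁻¹) := by group
    _ = ((y : G)⁻¹ * (i * y * i⁻¹))⁻¹ := by rw [hii]; group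

/-- `N ∩ N^i`. -/
def D (t0 i : G) : Subgroup G := N t0 ⊓ (N t0).comap (MulAut.conj i).toMonoidHom

omit [Finite G] in
theorem mem_D {t0 i x : G} : x ∈ D t0 i ↔ x ∈ N t0 ∧ i * x * i⁻¹ ∈ N t0 := Iff.rfl

/-- Hypotheses. -/
structure Setup (t0 i : G) : Prop where
  ab : EvenHyp G
  h0 : orderOf t0 = 2
  hN : N t0 ≠ ⊤
  hi : orderOf i = 2
  hiN : i ∉ N t0
  h3 : 2 ≤ (A t0).relIndex (N t0)
  dA : ∀ j : G, orderOf j = 2 → j ∉ N t0 → ∀ a ∈ A t0, a ∈ D t0 j → a = 1
  dI : ∀ j : G, orderOf j = 2 → j ∉ N t0 → ∀ d ∈ D t0 j, d ≠ 1 → j * d * j⁻¹ = d⁻¹ →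
    ∀ b : G, b * d = d * b → j * b * j⁻¹ = b → b = 1

variable {t0 i : G}

/-- Groups with abelian centralisers satisfy the hypotheses. -/
theorem EvenHyp.setup (h : EvenHyp G) (h0 : orderOf t0 = 2) (hN : N t0 ≠ ⊤) (hi : orderOf i = 2)
    (hiN : i ∉ N t0) (h3 : 2 ≤ (A t0).relIndex (N t0)) : Setup t0 i := by
  refine ⟨h, h0, hN, hi, hiN, h3, fun j hj hjN a ha haD => ?_, fun j hj hjN d hd hd1 hjd b hbd hbj => ?_⟩
  · obtain ⟨haN, hia⟩ := mem_D.1 haD
    set b := j * a * j⁻¹ with hb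
    by_contra ha1
    have h1 : b * a * b⁻¹ * a⁻¹ ∈ A t0 :=
      mul_mem ((mem_normalizer_iff.1 hia a).1 ha) (inv_mem ha)
    have h2 : j * (b * a * b⁻¹ * a⁻¹) * j⁻¹ ∈ A t0 := by
      rw [show j * (b * a * b⁻¹ * a⁻¹) * j⁻¹ = (j * b * j⁻¹) * (b * (j * b⁻¹ * j⁻¹) * b⁻¹) by
        simp only [hb]; group]
      have hib : j * b * j⁻¹ = a := by
        simp only [hb, inv_eq_self hj]
        calc j * (j * a * j) * j = (j * j) * a * (j * j) := by group
          _ = a := by rw [mul_self_eq_one hj, one_mul, mul_one]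
      rw [show j * b⁻¹ * j⁻¹ = (j * b * j⁻¹)⁻¹ by group, hib]
      exact mul_mem ha ((mem_normalizer_iff.1 hia _).1 (inv_mem ha))
    by_cases hc : b * a * b⁻¹ * a⁻¹ = 1
    · have hbA : b ∈ A t0 := by
        refine (h.block t0 h0).cent_le h.ti ha ha1 (mem_cent.2 ?_)
        calc b * a = (b * a * b⁻¹ * a⁻¹) * (a * b) := by group
          _ = a * b := by rw [hc, one_mul]
      exact hjN ((h.block t0 h0).mem_normalizer h.ti ha ha1 hbA)
    · exact hjN ((h.block t0 h0).mem_normalizer h.ti h1 hc h2)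
  · by_contra hb1
    obtain ⟨Mb, hMb, hle⟩ := exists_block_ge hb1
    have hjb : j ∈ centralizer ({b} : Set G) := mem_cent.2 (by rwa [mul_inv_eq_iff_eq_mul] at hbj)
    have hj1 : j ≠ 1 := fun e => by rw [e, orderOf_one] at hj; omega
    have heq : Mb = centralizer ({j} : Set G) :=
      block_unique h.ti hMb (h.block j hj) hj1 (hle hjb) (mem_cent.2 rfl)
    have hdj : j * d = d * j := (mem_cent.1 (heq ▸ hle (mem_cent.2 hbd.symm))).symm
    have h2 : d⁻¹ = d := by rw [← hjd, hdj, mul_inv_cancel_right]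
    have hd2 : orderOf d = 2 :=
      orderOf_eq_prime (by rw [pow_two]; nth_rw 1 [← h2]; exact inv_mul_cancel d) hd1
    obtain ⟨hdN, hdN'⟩ := mem_D.1 hd
    have hdA := mem_A_of_two h h0 hdN hd2
    exact hjN ((h.block t0 h0).mem_normalizer h.ti hdA hd1 (by rw [hjd, h2]; exact hdA))

namespace Setup

variable (h : Setup t0 i)
include h

theorem change (j : G) (hj : orderOf j = 2) (hjN : j ∉ N t0) : Setup t0 j :=
  ⟨h.ab, h.h0, h.hN, hj, hjN, h.h3, h.dA, h.dI⟩

theorem D_inf_A {a : G} (ha : a ∈ A t0) (haD : a ∈ D t0 i) : a = 1 := h.dA i h.hi h.hiN a ha haD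

theorem card_D_le {K : Subgroup G} (hK : K ≤ N t0) (hKA : ∀ a ∈ A t0, a ∈ K → a = 1) :
    Nat.card K ≤ (A t0).relIndex (N t0) := by
  rw [Subgroup.relIndex, Subgroup.index]
  refine Nat.card_le_card_of_injective
    (fun x : K => ((⟨x, hK x.2⟩ : N t0) : N t0 ⧸ (A t0).subgroupOf (N t0))) fun x y e => ?_
  have e' := mem_subgroupOf.1 (QuotientGroup.eq.1 e)
  exact Subtype.ext (inv_mul_eq_one.1 (hKA _ e' (mul_mem (inv_mem x.2) y.2)))

/-- The involutions in a coset `g N` outside `N`. -/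
theorem card_coset {g : G} (hg : g ∉ N t0) :
    Nat.card {j : G // orderOf j = 2 ∧ g⁻¹ * j ∈ N t0} = (A t0).relIndex (N t0) := by
  rw [Subgroup.relIndex, Subgroup.index]
  have hgq : ∀ q : N t0 ⧸ (A t0).subgroupOf (N t0), g * (q.out : G) ∉ N t0 := fun q hh => hg (by
    simpa using mul_mem hh (inv_mem q.out.2))
  choose j hj hju using fun q => existsUnique_involution h.ab h.h0 h.hN (hgq q)
  refine (Nat.card_eq_of_bijective (fun q => (⟨j q, (hj q).1, by
    have := mul_mem q.out.2 (A_le_N t0 (hj q).2)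
    simpa [mul_assoc] using this⟩ : {x : G // orderOf x = 2 ∧ g⁻¹ * x ∈ N t0})) ⟨fun q q' e => ?_, fun x => ?_⟩).symm
  · have e' : j q = j q' := congrArg Subtype.val e
    rw [← q.out_eq', ← q'.out_eq', QuotientGroup.eq, mem_subgroupOf, coe_mul, coe_inv]
    have := mul_mem (hj q).2 (inv_mem (hj q').2)
    rw [e'] at this
    simpa [mul_assoc] using this
  · refine ⟨((⟨g⁻¹ * x.1, x.2.2⟩ : N t0) : N t0 ⧸ (A t0).subgroupOf (N t0)), Subtype.ext ?_⟩
    refine (hju _ x.1 ⟨x.2.1, ?_⟩).symm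
    obtain ⟨⟨c, hc⟩, hcg⟩ := QuotientGroup.mk_out_eq_mul ((A t0).subgroupOf (N t0)) ⟨g⁻¹ * x.1, x.2.2⟩
    rw [hcg, coe_mul]
    have := inv_mem (mem_subgroupOf.1 hc)
    simpa [mul_assoc] using this

theorem prod_mem {j : G} (hj : orderOf j = 2) (hjN : i⁻¹ * j ∈ N t0) :
    i * j ∈ D t0 i ∧ i * (i * j) * i⁻¹ = (i * j)⁻¹ := by
  have e : i * (i * j) * i⁻¹ = (i * j)⁻¹ := by
    rw [mul_inv_rev, inv_eq_self h.hi, inv_eq_self hj, ← mul_assoc i i j, mul_self_eq_one h.hi, one_mul]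
  have hij : i * j ∈ N t0 := by rwa [inv_eq_self h.hi] at hjN
  exact ⟨mem_D.2 ⟨hij, e ▸ inv_mem hij⟩, e⟩

/-- `D` has order `[N : A]` and is inverted by `i`. -/
theorem D_data : Nat.card (D t0 i) = (A t0).relIndex (N t0) ∧ ∀ d ∈ D t0 i, i * d * i⁻¹ = d⁻¹ := by
  let ψ : {j : G // orderOf j = 2 ∧ i⁻¹ * j ∈ N t0} → D t0 i := fun j =>
    ⟨i * j.1, (h.prod_mem j.2.1 j.2.2).1⟩
  have hψ : Function.Injective ψ := fun a b e => Subtype.ext (mul_left_cancel (congrArg Subtype.val e))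
  have hle := h.card_D_le (K := D t0 i) inf_le_left (fun a ha haD => h.D_inf_A ha haD)
  have hge := Nat.card_le_card_of_injective ψ hψ
  rw [h.card_coset h.hiN] at hge
  refine ⟨le_antisymm hle hge, fun d hd => ?_⟩
  obtain ⟨j, hj⟩ := (hψ.bijective_of_nat_card_le (by rw [h.card_coset h.hiN]; omega)).2 ⟨d, hd⟩
  have := congrArg Subtype.val hj
  simp only [ψ] at this
  rw [← this]
  exact (h.prod_mem j.2.1 j.2.2).2

theorem D_comm {x y : G} (hx : x ∈ D t0 i) (hy : y ∈ D t0 i) : x * y = y * x := by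
  have e := h.D_data.2 _ (mul_mem hx hy)
  rw [show i * (x * y) * i⁻¹ = (i * x * i⁻¹) * (i * y * i⁻¹) by group, h.D_data.2 x hx, h.D_data.2 y hy,
    ← mul_inv_rev, inv_inj] at e
  exact e.symm

theorem exists_D : ∃ d ∈ D t0 i, d ≠ 1 := by
  rcases (D t0 i).bot_or_exists_ne_one with e | e
  · have := h.D_data.1
    rw [e, card_bot] at this
    have := h.h3
    omega
  · exact e

theorem sq_ne {d : G} (hd : d ∈ D t0 i) (hd1 : d ≠ 1) : d⁻¹ ≠ d := fun e => by
  have h2 : orderOf d = 2 := orderOf_eq_prime (by rw [pow_two]; nth_rw 1 [← e]; exact inv_mul_cancel d) hd1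
  exact hd1 (h.D_inf_A (mem_A_of_two h.ab h.h0 (mem_D.1 hd).1 h2) hd)

theorem not_mem_A {d : G} (hd : d ∈ D t0 i) (hd1 : d ≠ 1) : d ∉ A t0 := fun hA => hd1 (h.D_inf_A hA hd)

/-- `i` inverts `C(d)`. -/
theorem cent_inverted {d b : G} (hd : d ∈ D t0 i) (hd1 : d ≠ 1) (hb : b ∈ centralizer ({d} : Set G)) :
    i * b * i⁻¹ = b⁻¹ := by
  have hid := h.D_data.2 d hd
  refine inverted_of_fpf h.hi (centralizer ({d} : Set G)) (fun x hx => mem_cent.2 ?_)
    (fun x hx hxi => h.dI i h.hi h.hiN d hd hd1 hid x (mem_cent.1 hx) hxi) b hb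
  have hd' : d = i * d⁻¹ * i⁻¹ := by
    rw [show i * d⁻¹ * i⁻¹ = (i * d * i⁻¹)⁻¹ by group, hid, inv_inv]
  have hx' : x * d⁻¹ = d⁻¹ * x := (Commute.inv_right (show Commute x d from mem_cent.1 hx)).eq
  rw [hd']
  calc i * x * i⁻¹ * (i * d⁻¹ * i⁻¹) = i * (x * d⁻¹) * i⁻¹ := by group
    _ = i * d⁻¹ * i⁻¹ * (i * x * i⁻¹) := by rw [hx']; group

theorem cent_comm {d x y : G} (hd : d ∈ D t0 i) (hd1 : d ≠ 1) (hx : x ∈ centralizer ({d} : Set G))
    (hy : y ∈ centralizer ({d} : Set G)) : x * y = y * x := by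
  have e := h.cent_inverted hd hd1 (mul_mem hx hy)
  rw [show i * (x * y) * i⁻¹ = (i * x * i⁻¹) * (i * y * i⁻¹) by group, h.cent_inverted hd hd1 hx,
    h.cent_inverted hd hd1 hy, ← mul_inv_rev, inv_inj] at e
  exact e.symm

theorem cent_inf_A {d b : G} (hd : d ∈ D t0 i) (hd1 : d ≠ 1) (hb : b ∈ A t0)
    (hbd : b ∈ centralizer ({d} : Set G)) : b = 1 :=
  eq_one_of_inverted h.ab h.h0 h.hN h.hi h.hiN hb (h.cent_inverted hd hd1 hbd)

/-- `C(d) ∩ N = D`. -/
theorem cent_inf_N {d x : G} (hd : d ∈ D t0 i) (hd1 : d ≠ 1) (hx : x ∈ N t0)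
    (hxd : x ∈ centralizer ({d} : Set G)) : x ∈ D t0 i := by
  have hle : D t0 i ≤ centralizer ({d} : Set G) ⊓ N t0 := fun y hy =>
    ⟨mem_cent.2 (h.D_comm hy hd), (mem_D.1 hy).1⟩
  have hc := h.card_D_le (K := centralizer ({d} : Set G) ⊓ N t0) inf_le_right
    (fun a ha hac => h.cent_inf_A hd hd1 ha hac.1)
  have := Subgroup.eq_of_le_of_card_ge hle (hc.trans h.D_data.1.ge)
  rw [this]
  exact ⟨hxd, hx⟩

/-- Decomposition `N = A D`. -/
theorem exists_mul {n : G} (hn : n ∈ N t0) : ∃ a ∈ A t0, ∃ d ∈ D t0 i, n = a * d := by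
  have hinj : Function.Injective (fun x : D t0 i =>
      ((⟨x, (mem_D.1 x.2).1⟩ : N t0) : N t0 ⧸ (A t0).subgroupOf (N t0))) := fun x y e =>
    Subtype.ext (inv_mul_eq_one.1 (h.D_inf_A (mem_subgroupOf.1 (QuotientGroup.eq.1 e))
      (mul_mem (inv_mem x.2) y.2)))
  obtain ⟨d, hd⟩ := (hinj.bijective_of_nat_card_le (by rw [h.D_data.1]; rfl)).2
    ((⟨n, hn⟩ : N t0) : N t0 ⧸ (A t0).subgroupOf (N t0))
  have e' := mem_subgroupOf.1 (QuotientGroup.eq.1 hd)
  simp only [coe_mul, coe_inv] at e'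
  refine ⟨(d : G) * ((d : G)⁻¹ * n) * (d : G)⁻¹, (mem_normalizer_iff.1 (mem_D.1 d.2).1 _).1 e', d, d.2, by group⟩

/-- An element of `N` conjugating `d` into `D` lies in `D`. -/
theorem normalizer_inf_N {d n : G} (hd : d ∈ D t0 i) (hd1 : d ≠ 1) (hn : n ∈ N t0)
    (hnd : n * d * n⁻¹ ∈ D t0 i) : n ∈ D t0 i := by
  obtain ⟨a, ha, e, he, rfl⟩ := h.exists_mul hn
  have e1 : a * e * d * (a * e)⁻¹ = a * d * a⁻¹ := by
    rw [show a * e * d * (a * e)⁻¹ = a * (e * d * e⁻¹) * a⁻¹ by group,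
      show e * d * e⁻¹ = d by rw [h.D_comm he hd]; group]
  rw [e1] at hnd
  have h1 : a * d * a⁻¹ * d⁻¹ ∈ A t0 := by
    rw [show a * d * a⁻¹ * d⁻¹ = a * (d * a⁻¹ * d⁻¹) by group]
    exact mul_mem ha ((mem_normalizer_iff.1 (mem_D.1 hd).1 _).1 (inv_mem ha))
  have h2 := h.D_inf_A h1 (mul_mem hnd (inv_mem hd))
  have ha1 : a = 1 := h.cent_inf_A hd hd1 ha (mem_cent.2 (by
    calc a * d = (a * d * a⁻¹ * d⁻¹) * (d * a) := by group
      _ = d * a := by rw [h2, one_mul]))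
  rw [ha1, one_mul]; exact he

/-- Every element of `N` outside `A` is conjugate by `A` into `D`. -/
theorem cover {x : G} (hx : x ∈ N t0) (hxA : x ∉ A t0) : ∃ a ∈ A t0, a⁻¹ * x * a ∈ D t0 i := by
  classical
  let f : A t0 × {d : D t0 i // d ≠ 1} → {y : N t0 // (y : G) ∉ A t0} := fun p =>
    ⟨⟨(p.1 : G) * (p.2.1 : G) * (p.1 : G)⁻¹, mul_mem (mul_mem (A_le_N t0 p.1.2) (mem_D.1 p.2.1.2).1)
      (inv_mem (A_le_N t0 p.1.2))⟩, fun hc => h.not_mem_A p.2.1.2 (fun e => p.2.2 (Subtype.ext e))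
        (by have := mul_mem (mul_mem (inv_mem p.1.2) hc) p.1.2; simpa [mul_assoc] using this)⟩
  have hf : Function.Injective f := by
    rintro ⟨a, ⟨d, hd⟩⟩ ⟨a', ⟨d', hd'⟩⟩ e
    have e' : (a : G) * d * (a : G)⁻¹ = a' * d' * (a' : G)⁻¹ := congrArg (fun y => (y.1.1 : G)) e
    have hd1 : (d : G) ≠ 1 := fun e => hd (Subtype.ext e)
    have hb : ((a' : G)⁻¹ * a) * d * ((a' : G)⁻¹ * a)⁻¹ = d' := by
      calc _ = (a' : G)⁻¹ * ((a : G) * d * (a : G)⁻¹) * a' := by group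
        _ = _ := by rw [e']; group
    have hbD := h.normalizer_inf_N d.2 hd1 (mul_mem (inv_mem (A_le_N t0 a'.2)) (A_le_N t0 a.2))
      (hb ▸ d'.2)
    have hb1 := h.D_inf_A (mul_mem (inv_mem a'.2) a.2) hbD
    rw [hb1] at hb
    have : (a' : G) = a := inv_mul_eq_one.1 hb1
    have hdd : d = d' := Subtype.ext (by simpa using hb)
    subst hdd
    simp [Subtype.ext this]
  have hD1 : Nat.card {d : D t0 i // d ≠ 1} + 1 = (A t0).relIndex (N t0) := by
    haveI := Fintype.ofFinite (D t0 i)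
    rw [← h.D_data.1, Nat.card_eq_fintype_card (α := {d : D t0 i // d ≠ 1}), Fintype.card_subtype_compl,
      Fintype.card_subtype_eq, Nat.card_eq_fintype_card]
    have := Fintype.card_pos (α := D t0 i)
    omega
  have hN1 : Nat.card {y : N t0 // (y : G) ∉ A t0} + Nat.card (A t0) = Nat.card (N t0) := by
    rw [← Nat.card_congr (Equiv.sumCompl fun y : N t0 => (y : G) ∉ A t0), Nat.card_sum]
    congr 1
    exact Nat.card_congr
      { toFun := fun a => ⟨⟨a, A_le_N t0 a.2⟩, not_not.2 a.2⟩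
        invFun := fun y => ⟨y.1.1, not_not.1 y.2⟩
        left_inv := fun a => rfl
        right_inv := fun y => rfl }
  have hcard : Nat.card {y : N t0 // (y : G) ∉ A t0} ≤ Nat.card (A t0 × {d : D t0 i // d ≠ 1}) := by
    rw [Nat.card_prod]
    have hm : Nat.card (A t0) * (A t0).relIndex (N t0) = Nat.card (N t0) := by
      have h1 := ((A t0).subgroupOf (N t0)).card_mul_index
      rwa [Nat.card_congr (subgroupOfEquivOfLe (A_le_N t0)).toEquiv] at h1
    rw [← hD1, mul_add, mul_one] at hm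
    omega
  obtain ⟨⟨a, d⟩, he⟩ := (hf.bijective_of_nat_card_le hcard).2 ⟨⟨x, hx⟩, hxA⟩
  refine ⟨a, a.2, ?_⟩
  have : (a : G) * d.1 * (a : G)⁻¹ = x := congrArg (fun y => (y.1.1 : G)) he
  rw [← this]
  simpa [mul_assoc] using d.1.2

/-- The two-point stabilisers at `N` are conjugate under `A`. -/
theorem conj_D {j : G} (hj : orderOf j = 2) (hjN : j ∉ N t0) :
    ∃ a ∈ A t0, ∀ x, x ∈ D t0 j ↔ a⁻¹ * x * a ∈ D t0 i := by
  have h' := h.change j hj hjN
  obtain ⟨x0, hx0, hx01⟩ := h'.exists_D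
  obtain ⟨a, ha, had⟩ := h.cover (mem_D.1 hx0).1 (h'.not_mem_A hx0 hx01)
  have hd1 : a⁻¹ * x0 * a ≠ 1 := fun e => hx01 (by
    calc x0 = a * (a⁻¹ * x0 * a) * a⁻¹ := by group
      _ = 1 := by rw [e]; group)
  let f : D t0 j → D t0 i := fun x => ⟨a⁻¹ * x * a, h.cent_inf_N had hd1
    (mul_mem (mul_mem (inv_mem (A_le_N t0 ha)) (mem_D.1 x.2).1) (A_le_N t0 ha))
    (mem_cent.2 (by
      calc a⁻¹ * x * a * (a⁻¹ * x0 * a) = a⁻¹ * ((x : G) * x0) * a := by group
        _ = a⁻¹ * x0 * a * (a⁻¹ * x * a) := by rw [h'.D_comm x.2 hx0]; group))⟩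
  have hf : Function.Injective f := fun x y e => Subtype.ext (by
    have := congrArg Subtype.val e
    exact mul_left_cancel (mul_right_cancel this))
  refine ⟨a, ha, fun x => ⟨fun hx => (f ⟨x, hx⟩).2, fun hx => ?_⟩⟩
  obtain ⟨y, hy⟩ := (hf.bijective_of_nat_card_le (by rw [h.D_data.1, h'.D_data.1])).2 ⟨_, hx⟩
  have := mul_left_cancel (mul_right_cancel (congrArg Subtype.val hy))
  exact this ▸ y.2

end Setup


end

section

variable {G : Type*} [Group G] [Finite G] {t0 i : G}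

omit [Finite G] in
theorem smul_eq_iff {K : Subgroup G} (x g : G) :
    x • (g : G ⧸ K) = (g : G ⧸ K) ↔ g⁻¹ * x * g ∈ K := by
  rw [MulAction.Quotient.smul_mk, QuotientGroup.eq, ← inv_mem_iff]
  simp [mul_assoc]

namespace Setup

variable (h : Setup t0 i)
include h

theorem fixed_coset_iff {j : G} (hj : orderOf j = 2) {x : G} :
    x • (j : G ⧸ N t0) = (j : G ⧸ N t0) ↔ j * x * j⁻¹ ∈ N t0 := by
  rw [smul_eq_iff, inv_eq_self hj]

/-- A representative involution of a coset outside `N`. -/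
theorem exists_rep {q : G ⧸ N t0} (hq : q ≠ ((1 : G) : G ⧸ N t0)) :
    ∃ j : G, orderOf j = 2 ∧ j ∉ N t0 ∧ (j : G ⧸ N t0) = q := by
  obtain ⟨g, rfl⟩ := QuotientGroup.mk_surjective q
  have hg : g ∉ N t0 := fun hg => hq (QuotientGroup.eq.2 (by simpa using hg))
  obtain ⟨j, ⟨hj, hja⟩, -⟩ := existsUnique_involution h.ab h.h0 h.hN hg
  have he : (j : G ⧸ N t0) = (g : G ⧸ N t0) := QuotientGroup.eq.2 (by
    have := inv_mem (A_le_N t0 hja)
    rwa [mul_inv_rev, inv_inv] at this)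
  refine ⟨j, hj, fun hjN => hq ?_, he⟩
  rw [← he]; exact QuotientGroup.eq.2 (by simpa using hjN)

/-- An involution inverting a non-trivial element of `D` lies outside `N`. -/
theorem inverter_notMem {d j : G} (hd : d ∈ D t0 i) (hd1 : d ≠ 1) (hj : orderOf j = 2)
    (hjd : j * d * j⁻¹ = d⁻¹) : j ∉ N t0 := by
  intro hjN
  have hjA := mem_A_of_two h.ab h.h0 hjN hj
  have h1 : j * d * j⁻¹ * d⁻¹ ∈ A t0 := by
    rw [show j * d * j⁻¹ * d⁻¹ = j * (d * j⁻¹ * d⁻¹) by group]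
    exact mul_mem hjA ((mem_normalizer_iff.1 (mem_D.1 hd).1 _).1 (inv_mem hjA))
  rw [hjd] at h1
  have h2 := h.D_inf_A h1 (mul_mem (inv_mem hd) (inv_mem hd))
  exact h.sq_ne hd hd1 (by rwa [mul_inv_eq_one] at h2)

/-- The involutions inverting `d` are the elements of the coset `i C(d)`; they invert all of `D`. -/
theorem inverters {d : G} (hd : d ∈ D t0 i) (hd1 : d ≠ 1) {b : G} (hb : b ∈ centralizer ({d} : Set G)) :
    orderOf (i * b) = 2 ∧ ∀ e ∈ D t0 i, i * b * e * (i * b)⁻¹ = e⁻¹ := by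
  have hid := h.D_data.2 d hd
  have hsq : i * b * (i * b) = 1 := by
    rw [show i * b * (i * b) = (i * b * i⁻¹) * (i * i * b) by group, h.cent_inverted hd hd1 hb,
      mul_self_eq_one h.hi, one_mul, inv_mul_cancel]
  have hne : i * b ≠ 1 := fun e => by
    have hib : i = b⁻¹ := eq_inv_of_mul_eq_one_left e
    have hi' : i ∈ centralizer ({d} : Set G) := hib ▸ inv_mem hb
    rw [mem_cent.1 hi', mul_inv_cancel_right] at hid
    exact h.sq_ne hd hd1 hid.symm
  refine ⟨orderOf_eq_prime (by rw [pow_two, hsq]) hne, fun e he => ?_⟩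
  have hbe : b * e * b⁻¹ = e := by
    rw [h.cent_comm hd hd1 hb (mem_cent.2 (h.D_comm he hd) : e ∈ centralizer ({d} : Set G)),
      mul_inv_cancel_right]
  calc i * b * e * (i * b)⁻¹ = i * (b * e * b⁻¹) * i⁻¹ := by group
    _ = e⁻¹ := by rw [hbe, h.D_data.2 e he]

theorem inverter_mem_coset {d j : G} (hd : d ∈ D t0 i) (hjd : j * d * j⁻¹ = d⁻¹) :
    i⁻¹ * j ∈ centralizer ({d} : Set G) := by
  refine mem_cent.2 ?_
  have h1 : i⁻¹ * d⁻¹ * i = d := by rw [← h.D_data.2 d hd]; group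
  rw [mul_inv_eq_iff_eq_mul] at hjd
  calc i⁻¹ * j * d = i⁻¹ * (d⁻¹ * j) := by rw [mul_assoc, hjd]
    _ = (i⁻¹ * d⁻¹ * i) * (i⁻¹ * j) := by group
    _ = d * (i⁻¹ * j) := by rw [h1]

/-- `D` fixes only the points `N` and `iN`. -/
theorem fixed_eq {q : G ⧸ N t0} (hq : q ≠ ((1 : G) : G ⧸ N t0)) (hqD : ∀ x ∈ D t0 i, x • q = q) :
    q = (i : G ⧸ N t0) := by
  classical
  obtain ⟨d, hd, hd1⟩ := h.exists_D
  set B := centralizer ({d} : Set G) with hB
  let J := {j : G // orderOf j = 2 ∧ j * d * j⁻¹ = d⁻¹}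
  let F := {r : G ⧸ N t0 // r ≠ ((1 : G) : G ⧸ N t0) ∧ ∀ x ∈ D t0 i, x • r = r}
  -- `J` is a coset of `B`
  have hJB : Nat.card J = Nat.card B :=
    Nat.card_congr
      { toFun := fun j => ⟨i⁻¹ * j.1, h.inverter_mem_coset hd j.2.2⟩
        invFun := fun b => ⟨i * b, (h.inverters hd hd1 b.2).1, (h.inverters hd hd1 b.2).2 d hd⟩
        left_inv := fun j => Subtype.ext (mul_inv_cancel_left i j.1)
        right_inv := fun b => Subtype.ext (inv_mul_cancel_left i (b : G)) }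
  -- `J` lies over the fixed points
  have hJfix : ∀ j : J, (j.1 : G ⧸ N t0) ≠ ((1 : G) : G ⧸ N t0) ∧
      ∀ x ∈ D t0 i, x • (j.1 : G ⧸ N t0) = (j.1 : G ⧸ N t0) := fun j => by
    refine ⟨fun e => h.inverter_notMem hd hd1 j.2.1 j.2.2 (by simpa using QuotientGroup.eq.1 e.symm), fun x hx => ?_⟩
    rw [h.fixed_coset_iff j.2.1, show j.1 = i * (i⁻¹ * j.1) by group,
      (h.inverters hd hd1 (h.inverter_mem_coset hd j.2.2)).2 x hx]
    exact inv_mem (mem_D.1 hx).1
  have hfib : ∀ r : F, Nat.card {j : J // (j.1 : G ⧸ N t0) = r.1} = (A t0).relIndex (N t0) := by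
    intro r
    obtain ⟨g, hg, hgN, hgr⟩ := h.exists_rep r.2.1
    rw [← h.card_coset hgN]
    refine Nat.card_congr
      { toFun := fun j => ⟨j.1.1, j.1.2.1, QuotientGroup.eq.1 (hgr.trans j.2.symm)⟩
        invFun := fun x => ⟨⟨x.1, x.2.1, ?_⟩, (QuotientGroup.eq.2 x.2.2).symm.trans hgr⟩
        left_inv := fun j => rfl
        right_inv := fun x => rfl }
    have hxN : x.1 ∉ N t0 := fun hx => hgN (by simpa using mul_mem hx (inv_mem x.2.2))
    have h' := h.change x.1 x.2.1 hxN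
    have hxr : (x.1 : G ⧸ N t0) = r.1 := (QuotientGroup.eq.2 x.2.2).symm.trans hgr
    have hdx : d ∈ D t0 x.1 := mem_D.2 ⟨(mem_D.1 hd).1,
      (h.fixed_coset_iff x.2.1).1 (hxr ▸ r.2.2 d hd)⟩
    exact h'.D_data.2 d hdx
  have hJF : Nat.card J = Nat.card F * (A t0).relIndex (N t0) := by
    have := Fintype.ofFinite F
    rw [← Nat.card_congr (Equiv.sigmaFiberEquiv fun j : J => (⟨(j.1 : G ⧸ N t0), hJfix j⟩ : F)),
      Nat.card_sigma, Finset.sum_congr rfl (fun r _ => (Nat.card_congr (Equiv.subtypeEquivRight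
        fun j => Subtype.ext_iff)).trans (hfib r)), Finset.sum_const, Finset.card_univ, smul_eq_mul,
      Nat.card_eq_fintype_card]
  -- the normaliser of `D`
  set K := normalizer (D t0 i : Set G) with hK
  have hiB : i ∉ B := fun e => by
    have := h.D_data.2 d hd
    rw [mem_cent.1 e, mul_inv_cancel_right] at this
    exact h.sq_ne hd hd1 this.symm
  have hBK : B ≤ K := fun b hb => mem_normalizer_iff.2 fun y => by
    constructor <;> intro hy
    · rwa [h.cent_comm hd hd1 hb (mem_cent.2 (h.D_comm hy hd) : y ∈ centralizer ({d} : Set G)), mul_inv_cancel_right]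
    · have e : b * y * b⁻¹ ∈ B := mem_cent.2 (h.D_comm hy hd)
      have hyB : y ∈ B := by simpa [mul_assoc] using mul_mem (mul_mem (inv_mem hb) e) hb
      rwa [h.cent_comm hd hd1 hb hyB, mul_inv_cancel_right] at hy
  have hiK : i ∈ K := mem_normalizer_iff.2 fun y => by
    constructor <;> intro hy
    · rw [h.D_data.2 y hy]; exact inv_mem hy
    · have := h.D_data.2 _ hy
      rw [inv_eq_self h.hi] at hy this
      have e : i * (i * y * i) * i = y := by
        calc i * (i * y * i) * i = (i * i) * y * (i * i) := by group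
          _ = y := by rw [mul_self_eq_one h.hi, one_mul, mul_one]
      rw [e] at this
      rw [this]; exact inv_mem hy
  have h2B : 2 * Nat.card B ≤ Nat.card K := by
    rw [two_mul, ← Nat.card_sum]
    refine Nat.card_le_card_of_injective
      (Sum.elim (fun b : B => (⟨b, hBK b.2⟩ : K)) (fun b : B => ⟨i * b, mul_mem hiK (hBK b.2)⟩))
      (Function.Injective.sumElim (fun b c e => Subtype.ext (congrArg (fun y : K => (y : G)) e))
        (fun b c e => Subtype.ext (mul_left_cancel (congrArg (fun y : K => (y : G)) e))) fun b c e => hiB ?_)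
    have e' : (b : G) = i * c := congrArg Subtype.val e
    simpa [e'] using mul_mem b.2 (inv_mem c.2)
  have hKF : (D t0 i).relIndex K ≤ Nat.card F + 1 := by
    rw [Subgroup.relIndex, Subgroup.index, ← Finite.card_option]
    let π : G ⧸ N t0 → Option F := fun r =>
      if hr : r ≠ ((1 : G) : G ⧸ N t0) ∧ ∀ x ∈ D t0 i, x • r = r then some ⟨r, hr⟩ else none
    have hfix : ∀ k : K, ∀ x ∈ D t0 i, x • ((k : G) : G ⧸ N t0) = ((k : G) : G ⧸ N t0) := fun k x hx => by
      rw [smul_eq_iff]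
      exact (mem_D.1 ((mem_normalizer_iff''.1 k.2 x).1 hx)).1
    refine Nat.card_le_card_of_injective
      (fun q : K ⧸ (D t0 i).subgroupOf K => π ((q.out : G) : G ⧸ N t0)) fun q q' e => ?_
    have e' : ((q.out : G) : G ⧸ N t0) = ((q'.out : G) : G ⧸ N t0) := by
      simp only [π] at e
      split_ifs at e with e1 e2 e2
      · exact congrArg Subtype.val (Option.some.inj e)
      · exact (not_not.1 fun n => e1 ⟨n, hfix q.out⟩).trans (not_not.1 fun n => e2 ⟨n, hfix q'.out⟩).symm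
    rw [← q.out_eq', ← q'.out_eq', QuotientGroup.eq, mem_subgroupOf]
    refine h.normalizer_inf_N hd hd1 ?_ ?_
    · simpa using QuotientGroup.eq.1 e'
    · exact (mem_normalizer_iff.1 (mul_mem (inv_mem q.out.2) q'.out.2) d).1 hd
  have hKcard : Nat.card K = (A t0).relIndex (N t0) * (D t0 i).relIndex K := by
    have hDK : D t0 i ≤ K := le_normalizer
    have h1 := ((D t0 i).subgroupOf K).card_mul_index
    rw [Nat.card_congr (subgroupOfEquivOfLe hDK).toEquiv, h.D_data.1] at h1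
    exact h1.symm
  have hF1 : Nat.card F ≤ 1 := by
    rw [← hJB, hJF, hKcard] at h2B
    have h3 : 2 * Nat.card F * (A t0).relIndex (N t0) ≤ (Nat.card F + 1) * (A t0).relIndex (N t0) := by
      calc _ = 2 * (Nat.card F * (A t0).relIndex (N t0)) := by ring
        _ ≤ _ := h2B
        _ ≤ (A t0).relIndex (N t0) * (Nat.card F + 1) := Nat.mul_le_mul_left _ hKF
        _ = _ := by ring
    have := Nat.le_of_mul_le_mul_right h3 (by have := h.h3; omega)
    omega
  have hiF : ((i : G ⧸ N t0) ≠ ((1 : G) : G ⧸ N t0)) ∧ ∀ x ∈ D t0 i, x • (i : G ⧸ N t0) = (i : G ⧸ N t0) :=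
    hJfix ⟨i, h.hi, h.D_data.2 d hd⟩
  have : Subsingleton F := Finite.card_le_one_iff_subsingleton.1 hF1
  exact congrArg Subtype.val (Subsingleton.elim (⟨q, hq, hqD⟩ : F) ⟨_, hiF⟩)

/-- `A` is transitive on the points different from `N`. -/
theorem exists_A {q : G ⧸ N t0} (hq : q ≠ ((1 : G) : G ⧸ N t0)) :
    ∃ a ∈ A t0, a • (i : G ⧸ N t0) = q := by
  obtain ⟨j, hj, hjN, rfl⟩ := h.exists_rep hq
  obtain ⟨a, ha, haD⟩ := h.conj_D hj hjN
  refine ⟨a, ha, ?_⟩
  have he : a⁻¹ • (j : G ⧸ N t0) = (i : G ⧸ N t0) := by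
    refine h.fixed_eq (fun e => hq ?_) fun x hx => ?_
    · rw [inv_smul_eq_iff, MulAction.Quotient.smul_mk] at e
      rw [e]; exact QuotientGroup.eq.2 (by simpa using A_le_N t0 ha)
    · have hxj : a * x * a⁻¹ ∈ D t0 j := (haD _).2 (by simpa [mul_assoc] using hx)
      have hf : (a * x * a⁻¹) • (j : G ⧸ N t0) = (j : G ⧸ N t0) :=
        (h.fixed_coset_iff hj).2 (mem_D.1 hxj).2
      rw [eq_inv_smul_iff, smul_smul, smul_smul]
      exact hf
  rw [← he, smul_inv_smul]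

theorem free_A {a : G} (ha : a ∈ A t0) {q : G ⧸ N t0} (hq : q ≠ ((1 : G) : G ⧸ N t0))
    (hfix : a • q = q) : a = 1 := by
  obtain ⟨j, hj, hjN, rfl⟩ := h.exists_rep hq
  exact (h.change j hj hjN).D_inf_A ha (mem_D.2 ⟨A_le_N t0 ha, (h.fixed_coset_iff hj).1 hfix⟩)

/-- A non-trivial element of `N` fixes at most one point other than `N`. -/
theorem fix_unique {x : G} (hx : x ∈ N t0) (hx1 : x ≠ 1) {p q : G ⧸ N t0}
    (hp : p ≠ ((1 : G) : G ⧸ N t0)) (hq : q ≠ ((1 : G) : G ⧸ N t0))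
    (hxp : x • p = p) (hxq : x • q = q) : p = q := by
  obtain ⟨j, hj, hjN, rfl⟩ := h.exists_rep hp
  obtain ⟨k, hk, hkN, rfl⟩ := h.exists_rep hq
  have hj' := h.change j hj hjN
  have hk' := h.change k hk hkN
  have hxj : x ∈ D t0 j := mem_D.2 ⟨hx, (h.fixed_coset_iff hj).1 hxp⟩
  have hxk : x ∈ D t0 k := mem_D.2 ⟨hx, (h.fixed_coset_iff hk).1 hxq⟩
  refine (hj'.fixed_eq hq fun y hy => ?_).symm
  rw [h.fixed_coset_iff hk]
  exact (mem_D.1 (hk'.cent_inf_N hxk hx1 (mem_D.1 hy).1 (mem_cent.2 (hj'.D_comm hy hxj)))).2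

end Setup


end

section
variable {G : Type*} [Group G] [Finite G] {t0 i : G}

namespace Setup

/-- No non-trivial normal subgroup meets `N` trivially. -/
theorem normal_meets (h : Setup t0 i) {M : Subgroup G} (hM : M.Normal)
    (hMN : ∀ m ∈ M, m ∈ N t0 → m = 1) : M = ⊥ := by
  have hno2 : ∀ m ∈ M, orderOf m ≠ 2 := by
    intro m hm hm2
    obtain ⟨g, hg⟩ := exists_conj h.ab h.h0 h.hN hm2
    have ht : t0 ∈ M := by
      have := hM.conj_mem m hm g⁻¹
      rwa [← hg, show g⁻¹ * (g * t0 * g⁻¹) * g⁻¹⁻¹ = t0 by group] at this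
    have h0 := h.h0
    rw [hMN t0 ht (A_le_N t0 (t0_mem t0)), orderOf_one] at h0
    omega
  have hinv : ∀ v ∈ A t0, orderOf v = 2 → ∀ m ∈ M, v * m * v⁻¹ = m⁻¹ := fun v hv hv2 =>
    inverted_of_fpf hv2 M (fun m hm => hM.conj_mem m hm v) fun m hm he => hMN m hm (A_le_N t0 (by
      rw [mul_inv_eq_iff_eq_mul] at he
      rw [← (show centralizer ({v} : Set G) = A t0 from cent_eq h.ab hv2 h.h0 (mem_cent.1 hv))]
      exact mem_cent.2 he.symm))
  obtain ⟨s, hs, hsne⟩ : ∃ s : G, (orderOf s = 2 ∧ s ∈ A t0) ∧ s ≠ t0 := by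
    by_contra hall
    push Not at hall
    haveI : Subsingleton {x : G // orderOf x = 2 ∧ x ∈ N t0} := ⟨fun x y => Subtype.ext
      ((hall _ ⟨x.2.1, mem_A_of_two h.ab h.h0 x.2.2 x.2.1⟩).trans
        (hall _ ⟨y.2.1, mem_A_of_two h.ab h.h0 y.2.2 y.2.1⟩).symm)⟩
    have := Finite.card_le_one_iff_subsingleton.2 (inferInstance : Subsingleton {x : G // orderOf x = 2 ∧ x ∈ N t0})
    rw [card_involutions_N h.ab h.h0 h.hN] at this
    have := h.h3
    omega
  have hts : orderOf (t0 * s) = 2 := by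
    refine orderOf_eq_prime ?_ fun e => hsne (inv_mul_eq_one.1 (by rwa [inv_eq_self h.h0])).symm
    rw [pow_two, show t0 * s * (t0 * s) = t0 * (s * t0) * s by group, mem_cent.1 hs.2, ← mul_assoc,
      mul_self_eq_one h.h0, one_mul, mul_self_eq_one hs.1]
  rw [eq_bot_iff_forall]
  intro m hm
  have e3 := hinv (t0 * s) (mul_mem (t0_mem t0) hs.2) hts m hm
  rw [show t0 * s * m * (t0 * s)⁻¹ = t0 * (s * m * s⁻¹) * t0⁻¹ by group, hinv s hs.2 hs.1 m hm,
    show t0 * m⁻¹ * t0⁻¹ = (t0 * m * t0⁻¹)⁻¹ by group, hinv t0 (t0_mem t0) h.h0 m hm, inv_inv] at e3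
  by_contra hm1
  exact hno2 m hm (orderOf_eq_prime (by rw [pow_two]; nth_rw 1 [e3]; exact inv_mul_cancel m) hm1)

theorem isZassenhaus (h : Setup t0 i) : Cfsg.IsZassenhausGroup G (G ⧸ N t0) := by
  classical
  set o : G ⧸ N t0 := ((1 : G) : G ⧸ N t0) with ho
  set p : G ⧸ N t0 := (i : G ⧸ N t0) with hp
  have hpo : p ≠ o := fun e => h.hiN (by simpa using QuotientGroup.eq.1 e.symm)
  have hmove : ∀ a : G ⧸ N t0, ∃ g : G, g • a = o := fun a => by
    obtain ⟨g, rfl⟩ := QuotientGroup.mk_surjective a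
    exact ⟨g⁻¹, by rw [MulAction.Quotient.smul_mk, smul_eq_mul, inv_mul_cancel]⟩
  have hpre : ∀ a b : G ⧸ N t0, a ≠ b → ∃ g : G, g • a = o ∧ g • b = p := fun a b hab => by
    obtain ⟨g, hg⟩ := hmove a
    obtain ⟨c, hc, hcp⟩ := h.exists_A (q := g • b) (fun e => hab (MulAction.injective g (hg.trans e.symm)))
    refine ⟨c⁻¹ * g, ?_, ?_⟩
    · rw [mul_smul, hg, inv_smul_eq_iff, ho, MulAction.Quotient.smul_mk]
      exact QuotientGroup.eq.2 (by simpa using A_le_N t0 hc)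
    · rw [mul_smul, inv_smul_eq_iff]; exact hcp.symm
  have hthree : ∀ g : G, ∀ a b c : G ⧸ N t0, a ≠ b → b ≠ c → a ≠ c →
      g • a = a → g • b = b → g • c = c → g = 1 := by
    intro g a b c hab hbc hac ha hb hc
    by_contra hg
    obtain ⟨k, hk⟩ := hmove a
    have hfix : ∀ q : G ⧸ N t0, g • q = q → (k * g * k⁻¹) • (k • q) = k • q := fun q hq => by
      rw [smul_smul, inv_mul_cancel_right, mul_smul, hq]
    have hxN : k * g * k⁻¹ ∈ N t0 := by
      have := hfix a ha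
      rw [hk, ho, smul_eq_iff, inv_one, one_mul, mul_one] at this
      exact this
    exact hbc (MulAction.injective k (h.fix_unique hxN (fun e => hg (conj_eq_one_iff.1 e))
      (fun e => hab (MulAction.injective k (hk.trans e.symm)))
      (fun e => hac (MulAction.injective k (hk.trans e.symm))) (hfix b hb) (hfix c hc)))
  refine ⟨⟨fun {g g'} hgg => ?_⟩, ?_, hthree, ?_, ?_⟩
  · -- faithful
    rw [← inv_mul_eq_one]
    obtain ⟨a, ha, ha1⟩ : ∃ a ∈ A t0, a ≠ 1 := ⟨t0, t0_mem t0, fun e => by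
      have := h.h0; rw [e, orderOf_one] at this; omega⟩
    refine hthree _ o p (a • p) hpo.symm (fun e => ha1 (h.free_A ha hpo e.symm)) (fun e => hpo ?_)
      (by rw [mul_smul, ← hgg, inv_smul_smul]) (by rw [mul_smul, ← hgg, inv_smul_smul])
      (by rw [mul_smul, ← hgg, inv_smul_smul])
    have : a • o = o := by
      rw [ho, MulAction.Quotient.smul_mk]; exact QuotientGroup.eq.2 (by simpa using A_le_N t0 ha)
    exact MulAction.injective a (e.symm.trans this.symm)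
  · rw [MulAction.is_two_pretransitive_iff]
    intro a b c d hab hcd
    obtain ⟨g, hga, hgb⟩ := hpre a b hab
    obtain ⟨g', hga', hgb'⟩ := hpre c d hcd
    exact ⟨g'⁻¹ * g, by rw [mul_smul, hga, ← hga', inv_smul_smul],
      by rw [mul_smul, hgb, ← hgb', inv_smul_smul]⟩
  · obtain ⟨d, hd, hd1⟩ := h.exists_D
    refine ⟨d, hd1, o, p, hpo.symm, ?_, ?_⟩
    · rw [ho, smul_eq_iff]; simpa using (mem_D.1 hd).1
    · rw [hp, h.fixed_coset_iff h.hi]; exact (mem_D.1 hd).2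
  · intro M hMn hMt
    refine ⟨o, fun e => ?_⟩
    have hbot : M = ⊥ := h.normal_meets hMn fun m hm hmN => congrArg Subtype.val
      ((Subgroup.eq_bot_iff_forall _).1 e ⟨m, hm⟩ (by
        show m • o = o
        rw [ho, smul_eq_iff]; simpa using hmN))
    obtain ⟨⟨m, hm'⟩, hm⟩ := hMt.exists_smul_eq o p
    rw [Subgroup.smul_def] at hm
    rw [hbot, mem_bot] at hm'
    exact hpo (by simpa [hm'] using hm.symm)

theorem card_points (h : Setup t0 i) : Nat.card (A t0) + 1 = Nat.card (G ⧸ N t0) := by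
  classical
  rw [← Finite.card_option]
  refine Nat.card_eq_of_bijective
    (fun a : Option (A t0) => a.elim ((1 : G) : G ⧸ N t0) fun a => (a : G) • (i : G ⧸ N t0))
    ⟨?_, fun q => ?_⟩
  · have hne : ∀ a : A t0, (a : G) • (i : G ⧸ N t0) ≠ ((1 : G) : G ⧸ N t0) := fun a e => h.hiN (by
      rw [MulAction.Quotient.smul_mk, eq_comm, QuotientGroup.eq] at e
      have := mul_mem (inv_mem (A_le_N t0 a.2)) e
      simpa using this)
    rintro (_ | a) (_ | b) e
    · rfl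
    · exact absurd e.symm (hne b)
    · exact absurd e (hne a)
    · refine congrArg some (Subtype.ext ?_)
      have e' : (a : G) • (i : G ⧸ N t0) = (b : G) • (i : G ⧸ N t0) := e
      rw [← inv_smul_eq_iff, smul_smul] at e'
      refine (inv_mul_eq_one.1 (h.free_A (mul_mem (inv_mem b.2) a.2) (fun e'' => ?_) e')).symm
      exact h.hiN (by simpa using QuotientGroup.eq.1 e''.symm)
  · by_cases hq : q = ((1 : G) : G ⧸ N t0)
    · exact ⟨none, hq.symm⟩
    · obtain ⟨a, ha, hap⟩ := h.exists_A hq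
      exact ⟨some ⟨a, ha⟩, hap⟩

/-- `G` is simple. -/
theorem isSimple (h : Setup t0 i) : IsSimpleGroup G := by
  classical
  haveI := Fintype.ofFinite (G ⧸ N t0)
  refine CfsgLib.Perm.zass_odd_degree_simple h.isZassenhaus ?_
  rw [← Nat.card_eq_fintype_card, ← h.card_points]
  have : 2 ∣ Nat.card (A t0) := by
    rw [← h.h0]; exact Subgroup.orderOf_dvd_natCard _ (t0_mem t0)
  exact (even_iff_two_dvd.2 this).add_one

end Setup

end

end CfsgLib.PLocal.TICent
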