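import Mathlib
import Cfsg.Agent.Lib.PGroups.Suzuki.TypeA

/-!
# A 2-group of type A with a large group of automorphisms moving elements within their centralisers

* `typeA_comm`: if `q - 1` automorphisms of a group of type A over a field of `q` elements act
  freely and map every element to one commuting with it, the group is abelian.

Owner: helper15.
-/

set_option autoImplicit false
set_option linter.all false

namespace CfsgLib.PLocal.TICent

open CfsgLib.PGroups

theorem typeA_comm {U D : Type*} [Group U] [Finite U] [Group D] [Finite D] (act : D →* MulAut U)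
    {F : Type} [Field F] [Fintype F] (φ : F ≃+* F) {n : ℕ} (hn : 1 ≤ n) (hF : Fintype.card F = 2 ^ n)
    (hD : Nat.card D + 1 = 2 ^ n)
    (hfree : ∀ d : D, ∀ u : U, act d u = u → d = 1 ∨ u = 1)
    (hcomm : ∀ (d : D) (u : U), Commute u (act d u))
    (e : U ≃* Cfsg.suzukiTypeA F (φ : F →+* F)) : ∀ u v : U, u * v = v * u := by
  classical
  haveI : Fact (Nat.Prime 2) := ⟨Nat.prime_two⟩
  haveI : CharP F 2 := by
    refine ringChar.of_eq ?_
    rw [FiniteField.even_card_iff_char_two, hF, Nat.pow_mod, Nat.mod_self, zero_pow (by omega), Nat.zero_mod]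
  set σ : F →+* F := (φ : F →+* F)
  choose X Y hXY using fun u : U => Suzuki.exists_el σ (e u).2
  have hmul : ∀ u v, X (u * v) = X u + X v ∧ Y (u * v) = Y u + Y v + σ (X u) * X v := by
    intro u v
    refine Suzuki.el_inj σ ?_
    rw [← hXY, ← Suzuki.el_mul, ← hXY, ← hXY, map_mul]
    rfl
  have hinj : ∀ u v, X u = X v → Y u = Y v → u = v := fun u v h1 h2 =>
    e.injective (Subtype.ext (by rw [hXY, hXY, h1, h2]))
  have hone : X 1 = 0 ∧ Y 1 = 0 := by
    refine Suzuki.el_inj σ ?_
    rw [← hXY, map_one, Suzuki.el_zero]; rfl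
  -- the kernel of `X` consists of the elements with square one
  have hker : ∀ u, X u = 0 ↔ u * u = 1 := by
    intro u
    constructor
    · intro h
      refine hinj _ _ ?_ ?_
      · rw [(hmul u u).1, h, hone.1, add_zero]
      · rw [(hmul u u).2, h, map_zero, mul_zero, add_zero, hone.2, Suzuki.add_self]
    · intro h
      have h2 := (hmul u u).2
      rw [h, hone.2, Suzuki.add_self, zero_add] at h2
      rcases mul_eq_zero.1 h2.symm with h3 | h3
      · exact φ.injective (h3.trans (map_zero φ).symm)
      · exact h3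
  have hXadd : ∀ u v, X u = X v ↔ X (u⁻¹ * v) = 0 := by
    intro u v
    have h1 := (hmul u (u⁻¹ * v)).1
    rw [mul_inv_cancel_left] at h1
    constructor <;> intro h
    · rw [← h] at h1; exact left_eq_add.1 h1
    · rw [h1, h, add_zero]
  set a : U := e.symm ⟨Suzuki.el σ 1 0, Suzuki.el_mem σ 1 0⟩ with ha
  have hXa : X a = 1 := (Suzuki.el_inj σ ((hXY a).symm.trans (by rw [ha, MulEquiv.apply_symm_apply]))).1
  -- the stabiliser of `a` modulo the kernel is trivial
  have hstab : ∀ d : D, X (act d a) = X a → d = 1 := by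
    intro d hd
    by_contra hd1
    have hord : orderOf d ≠ 1 := fun h => hd1 (orderOf_eq_one_iff.1 h)
    obtain ⟨l, hl, hld⟩ := Nat.exists_prime_and_dvd hord
    haveI := Fact.mk hl
    set δ := d ^ (orderOf d / l) with hδ
    have hδo : orderOf δ = l := by
      rw [hδ, orderOf_pow_of_dvd ((Nat.div_pos (Nat.le_of_dvd (orderOf_pos d) hld) hl.pos).ne')
        (Nat.div_dvd_of_dvd hld), Nat.div_div_self hld (orderOf_pos d).ne']
    have hδa : X (act δ a) = X a := by
      rw [hδ]
      induction orderOf d / l with
      | zero => simp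
      | succ k ih =>
        rw [pow_succ', map_mul, MulAut.mul_apply, ← hd]
        rw [hXadd]
        have := (hXadd _ _).1 ih
        rw [hker] at this ⊢
        rw [← map_inv, ← map_mul, ← map_mul, this, map_one]
    have hCinv : ∀ u, X u = 1 → X (act δ u) = 1 := by
      intro u hu
      rw [← hXa] at hu ⊢
      rw [← hδa, hXadd]
      have := (hXadd _ _).1 hu
      rw [hker] at this ⊢
      rw [← map_inv, ← map_mul, ← map_mul, this, map_one]
    let T : {u : U // X u = 1} → {u : U // X u = 1} := fun u => ⟨act δ u, hCinv u u.2⟩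
    have hT : Function.Injective T := fun u v h => Subtype.ext ((act δ).injective (congrArg Subtype.val h))
    let P : Equiv.Perm {u : U // X u = 1} := Equiv.ofBijective T (Finite.injective_iff_bijective.1 hT)
    have hP : ∀ (k : ℕ) u, ((P ^ k) u : U) = act (δ ^ k) u := by
      intro k
      induction k with
      | zero => intro u; simp
      | succ k ih =>
        intro u
        rw [pow_succ', Equiv.Perm.mul_apply, pow_succ', map_mul, MulAut.mul_apply, ← ih u]
        rfl
    have hP1 : P ^ l ^ 1 = 1 := Equiv.ext fun u => Subtype.ext (by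
      rw [hP, pow_one, ← hδo, pow_orderOf_eq_one, map_one]; rfl)
    haveI := Fintype.ofFinite {u : U // X u = 1}
    have hcard : Fintype.card {u : U // X u = 1} = 2 ^ n := by
      rw [← hF]
      refine (Fintype.card_of_bijective (f := fun y : F => (⟨e.symm ⟨Suzuki.el σ 1 y, Suzuki.el_mem σ 1 y⟩,
        (Suzuki.el_inj σ ((hXY _).symm.trans (by rw [MulEquiv.apply_symm_apply]))).1⟩ : {u : U // X u = 1}))
        ⟨fun y y' h => (Suzuki.el_inj σ (congrArg (fun z => ((e z.1 : _) : GL (Fin 3) F)) h |> fun h => by
          simpa using h)).2, fun u => ⟨Y u, Subtype.ext (e.injective (Subtype.ext (by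
          rw [MulEquiv.apply_symm_apply, hXY u.1, u.2])))⟩⟩).symm
    obtain ⟨u, hu⟩ := Equiv.Perm.exists_fixed_point_of_prime (n := 1) (hcard ▸ fun h => by
      have h2 := (Nat.prime_dvd_prime_iff_eq hl Nat.prime_two).1 (hl.dvd_of_dvd_pow h)
      have h3 : 2 ∣ Nat.card D := h2 ▸ hδo ▸ orderOf_dvd_natCard δ
      have h4 : 2 ∣ 2 ^ n := dvd_pow_self 2 (by omega)
      omega) hP1
    rcases hfree δ u (congrArg Subtype.val hu) with h | h
    · exact hl.ne_one (by rw [← hδo, h, orderOf_one])
    · have := u.2
      rw [h, hone.1] at this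
      exact zero_ne_one this
  -- the images of `a` are fixed by `φ`
  let f : D → {x : F // x ≠ 0 ∧ σ x = x} := fun d => ⟨X (act d a), fun h => by
      have h1 : a * a = 1 := (act d).injective (by rw [map_mul, map_one]; exact (hker _).1 h)
      rw [← hker, hXa] at h1
      exact one_ne_zero h1, by
      have h := congrArg Y (hcomm d a).eq
      rw [(hmul _ _).2, (hmul _ _).2, hXa, map_one, one_mul, mul_one, add_comm (Y (act d a))] at h
      exact (add_left_cancel h).symm⟩
  have hf : Function.Injective f := by
    intro d d' h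
    have h' : X (act d' a) = X (act d a) := (congrArg Subtype.val h).symm
    refine inv_mul_eq_one.1 (hstab _ ?_)
    rw [hXadd] at h' ⊢
    have h2 := hker _ |>.1 h'
    rw [hker]
    apply (act d).injective
    rw [map_mul, map_mul, map_inv, map_one, map_mul act, MulAut.mul_apply, map_inv act,
      MulAut.apply_inv_self]
    exact h2
  have hle := Nat.card_le_card_of_injective f hf
  let g : {x : F // x ≠ 0 ∧ σ x = x} → {x : F // x ≠ 0} := fun x => ⟨x.1, x.2.1⟩
  have hg : Function.Injective g := fun x y h => Subtype.ext (congrArg (fun z : {x : F // x ≠ 0} => z.1) h)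
  have hcardF : Nat.card {x : F // x ≠ 0} + 1 = 2 ^ n := by
    rw [Nat.card_eq_fintype_card, Fintype.card_subtype_compl, Fintype.card_subtype_eq, hF]
    have := Nat.one_le_two_pow (n := n)
    omega
  have hsurj := (hg.bijective_of_nat_card_le (by omega)).2
  have hid : ∀ x, σ x = x := by
    intro x
    by_cases hx : x = 0
    · rw [hx, map_zero]
    · obtain ⟨y, hy⟩ := hsurj ⟨x, hx⟩
      rw [← show y.1 = x from congrArg Subtype.val hy]
      exact y.2.2
  intro u v
  refine hinj _ _ ?_ ?_
  · rw [(hmul u v).1, (hmul v u).1, add_comm]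
  · rw [(hmul u v).2, (hmul v u).2, hid, hid]; ring

end CfsgLib.PLocal.TICent
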