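import Mathlib
import Cfsg.Agent.Lib.PLocal.TICent.Setup
import Cfsg.Agent.Lib.PLocal.TICent.TypeA
import Cfsg.Agent.Lib.OddLocal.CNGroup
import Cfsg.Agent.Lib.PLocal.CAGroup.Classify
import Cfsg.Agent.S0346
import Cfsg.Agent.S0738
import Cfsg.Agent.S0885

/-!
# TI centralisers in even order

* `evenHyp`: without self-normalising and normal blocks, the centraliser of an involution is a block.
* `iso_psl`: then `G` is `PSL(2, 2^f)`, given the structure of non-abelian kernels of simple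
  Zassenhaus groups.

Owner: helper15.
-/

set_option autoImplicit false
set_option linter.all false

universe u

namespace CfsgLib.PLocal.TICent

open Subgroup

variable {G : Type u} [Group G] [Finite G]

theorem evenHyp (hTI : TICentralizers G) (hno : ∀ M : Subgroup G, IsBlock M → ¬ M.Normal) :
    EvenHyp G := by
  refine ⟨hTI, fun t ht => ?_⟩
  haveI : Fact (Nat.Prime 2) := ⟨Nat.prime_two⟩
  have ht1 : t ≠ 1 := fun e => by rw [e, orderOf_one] at ht; omega
  obtain ⟨M, hM, hle⟩ := exists_block_ge ht1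
  have htM : t ∈ M := hle (mem_cent.2 rfl)
  have h2 : 2 ∣ Nat.card M := ht ▸ M.orderOf_dvd_natCard htM
  obtain ⟨c, hcM, hc, hcc⟩ := CfsgLib.OddLocal.CN.exists_central_orderOf (hM.isNilpotent hTI) h2
  have hc1 : c ≠ 1 := fun e => by rw [e, orderOf_one] at hc; omega
  have hCc : centralizer ({c} : Set G) = M :=
    le_antisymm (hM.cent_le hTI hcM hc1) fun m hm => mem_cent.2 (hcc m hm)
  -- an involution outside `M`
  obtain ⟨g, hg⟩ : ∃ g, g ∉ normalizer (M : Set G) := by
    by_contra hh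
    push Not at hh
    exact hno M hM (normalizer_eq_top_iff.1 (eq_top_iff.2 fun g _ => hh g))
  obtain ⟨u, hu⟩ : ∃ u, u = g * c * g⁻¹ := ⟨_, rfl⟩
  have hu2 : orderOf u = 2 := hu ▸
    (orderOf_injective (MulAut.conj g).toMonoidHom (MulAut.conj g).injective c).trans hc
  have huM : u ∉ M := fun h => hg (hM.mem_normalizer hTI hcM hc1 (hu ▸ h))
  have key : ∀ s ∈ M, orderOf s = 2 → ∃ k, k * u * k⁻¹ = s := by
    intro s hsM hs
    have hodd : ¬ 2 ∣ orderOf (s * u) := by
      intro h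
      have hv := exists_pow_two h
      set v := (s * u) ^ (orderOf (s * u) / 2)
      have hv1 : v ≠ 1 := fun e => by rw [e, orderOf_one] at hv; omega
      have hsu : s * (s * u) * s⁻¹ = (s * u)⁻¹ := by
        rw [mul_inv_rev, inv_eq_self hs, inv_eq_self hu2, ← mul_assoc s s u, mul_self_eq_one hs, one_mul]
      have huu : u * (s * u) * u⁻¹ = (s * u)⁻¹ := by
        rw [mul_inv_rev, inv_eq_self hs, inv_eq_self hu2]
        simp only [mul_assoc, mul_self_eq_one hu2, mul_one]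
      have h1 : s * v = v * s := by
        have := mul_pow_inverted hsu (orderOf (s * u) / 2)
        rwa [inv_eq_self hv, mul_inv_eq_iff_eq_mul] at this
      have h2 : u * v = v * u := by
        have := mul_pow_inverted huu (orderOf (s * u) / 2)
        rwa [inv_eq_self hv, mul_inv_eq_iff_eq_mul] at this
      have hvM : v ∈ M :=
        hM.cent_le hTI hsM (fun e => by rw [e, orderOf_one] at hs; omega) (mem_cent.2 h1.symm)
      exact huM (hM.cent_le hTI hvM hv1 (mem_cent.2 h2))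
    obtain ⟨k, hk⟩ : ∃ k, orderOf (s * u) = 2 * k + 1 := ⟨_, (Nat.div_add_mod _ 2).symm.trans
      (by rw [Nat.two_dvd_ne_zero.1 hodd])⟩
    have hux : u * (s * u) * u⁻¹ = (s * u)⁻¹ := by
      rw [mul_inv_rev, inv_eq_self hs, inv_eq_self hu2]
      simp only [mul_assoc, mul_self_eq_one hu2, mul_one]
    have h1 := mul_pow_inverted hux (k + 1)
    rw [mul_inv_eq_iff_eq_mul] at h1
    have e : (s * u) ^ (k + 1) * (s * u) ^ (k + 1) = s * u := by
      rw [← pow_add, show k + 1 + (k + 1) = orderOf (s * u) + 1 by omega, pow_succ, pow_orderOf_eq_one,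
        one_mul]
    refine ⟨(s * u) ^ (k + 1), ?_⟩
    calc (s * u) ^ (k + 1) * u * ((s * u) ^ (k + 1))⁻¹
        = (s * u) ^ (k + 1) * (u * ((s * u) ^ (k + 1))⁻¹) := by rw [mul_assoc]
      _ = (s * u) ^ (k + 1) * ((s * u) ^ (k + 1) * u) := by
          congr 1
          have h1' : u * (s * u) ^ (k + 1) = ((s * u) ^ (k + 1))⁻¹ * u := h1
          calc u * ((s * u) ^ (k + 1))⁻¹
              = (s * u) ^ (k + 1) * (((s * u) ^ (k + 1))⁻¹ * u) * ((s * u) ^ (k + 1))⁻¹ := by group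
            _ = (s * u) ^ (k + 1) * (u * (s * u) ^ (k + 1)) * ((s * u) ^ (k + 1))⁻¹ := by rw [h1']
            _ = (s * u) ^ (k + 1) * u := by group
      _ = s := by rw [← mul_assoc, e, mul_assoc, mul_self_eq_one hu2, mul_one]
  obtain ⟨k, hk⟩ := key t htM ht
  have e : t = (k * g) * c * (k * g)⁻¹ := by rw [← hk, hu]; group
  have hblock := hM.conj (k * g)
  rw [← hCc] at hblock
  have : (centralizer ({c} : Set G)).map (MulAut.conj (k * g)).toMonoidHom = centralizer ({t} : Set G) := by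
    ext z
    rw [e, mem_map]
    constructor
    · rintro ⟨a, ha, rfl⟩
      exact (conj_mem_cent (k * g)).2 ha
    · intro hz
      refine ⟨(k * g)⁻¹ * z * (k * g), ?_, show (k * g) * ((k * g)⁻¹ * z * (k * g)) * (k * g)⁻¹ = z by group⟩
      refine (conj_mem_cent (k * g)).1 ?_
      rw [show (k * g) * ((k * g)⁻¹ * z * (k * g)) * (k * g)⁻¹ = z by group]
      exact hz
  rwa [this] at hblock

/-- The form of `S1147` used here. -/
def KernelTypeA : Prop :=
  ∀ {G Ω : Type u} [Group G] [Finite G] [MulAction G Ω] [Finite Ω],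
    Cfsg.IsZassenhausGroup G Ω → IsSimpleGroup G → ∀ {a b : Ω}, a ≠ b →
    ∀ U : Subgroup G, U ≤ MulAction.stabilizer G a →
    (∀ h ∈ MulAction.stabilizer G a, ∀ u ∈ U, h * u * h⁻¹ ∈ U) →
    (∀ c d : Ω, c ≠ a → d ≠ a → ∃! u : U, (u : G) • c = d) →
    IsPGroup 2 U → (∃ u ∈ U, ∃ v ∈ U, u * v ≠ v * u) →
    ∃ n : ℕ, Odd n ∧ 1 < n ∧ Nat.card Ω = 2 ^ (2 * n) + 1 ∧
      IsCyclic ↥(MulAction.stabilizer G a ⊓ MulAction.stabilizer G b) ∧
      Nat.card ↥(MulAction.stabilizer G a ⊓ MulAction.stabilizer G b) = 2 ^ n - 1 ∧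
      ∃ (F : Type) (_ : Field F) (_ : Fintype F) (φ : F ≃+* F), Fintype.card F = 2 ^ n ∧
        Nonempty (U ≃* Cfsg.suzukiTypeA F (φ : F →+* F))

variable {t0 i : G}

theorem Setup.kernel_comm (hK : KernelTypeA.{u}) (h : Setup t0 i) :
    ∀ x ∈ A t0, ∀ y ∈ A t0, x * y = y * x := by
  classical
  haveI : Fact (Nat.Prime 2) := ⟨Nat.prime_two⟩
  haveI := h.isSimple
  haveI := Fintype.ofFinite (G ⧸ N t0)
  set o : G ⧸ N t0 := ((1 : G) : G ⧸ N t0) with ho
  set p : G ⧸ N t0 := (i : G ⧸ N t0) with hp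
  have hpo : o ≠ p := fun e => h.hiN (by simpa using QuotientGroup.eq.1 e)
  have hZ := h.isZassenhaus
  have hstab : (MulAction.stabilizer G o ⊓ MulAction.stabilizer G p : Subgroup G) = D t0 i := by
    ext x
    rw [mem_inf, MulAction.mem_stabilizer_iff, MulAction.mem_stabilizer_iff, hp,
      h.fixed_coset_iff h.hi, ho, smul_eq_iff, inv_one, one_mul, mul_one, mem_D]
  have hodd : ¬ 2 ∣ (A t0).relIndex (N t0) := fun hd =>
    odd_index h.ab h.h0 (hd.trans (relIndex_dvd_index_of_le (A_le_N t0)))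
  have hcardΩ : Fintype.card (G ⧸ N t0) = Nat.card (A t0) + 1 := by
    rw [h.card_points, Nat.card_eq_fintype_card]
  have hAa : A t0 ≤ MulAction.stabilizer G o := fun x hx => by
    rw [MulAction.mem_stabilizer_iff, ho, smul_eq_iff]; simpa using A_le_N t0 hx
  have hfix : ∀ u ∈ A t0, u ≠ 1 → ∀ c : G ⧸ N t0, u • c = c → c = o := fun u hu hu1 c hc => by
    by_contra hco; exact hu1 (h.free_A hu hco hc)
  have hAn : ∀ g ∈ MulAction.stabilizer G o, ∀ u ∈ A t0, g * u * g⁻¹ ∈ A t0 := by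
    intro g hg u hu
    rw [MulAction.mem_stabilizer_iff, ho, smul_eq_iff, inv_one, one_mul, mul_one] at hg
    exact (mem_normalizer_iff.1 hg u).1 hu
  have hreg : ∀ c d : G ⧸ N t0, c ≠ o → d ≠ o → ∃! u : A t0, (u : G) • c = d := by
    intro c d hc hd
    obtain ⟨a, ha, rfl⟩ := h.exists_A hc
    obtain ⟨b, hb, rfl⟩ := h.exists_A hd
    refine ⟨⟨b * a⁻¹, mul_mem hb (inv_mem ha)⟩, ?_, fun u hu => ?_⟩
    · show (b * a⁻¹) • a • (i : G ⧸ N t0) = b • (i : G ⧸ N t0)
      rw [smul_smul, inv_mul_cancel_right]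
    · refine Subtype.ext ?_
      have hfree := h.free_A (mul_mem (inv_mem hb) (mul_mem u.2 ha)) hpo.symm (by
        rw [mul_smul, mul_smul, hu, inv_smul_smul])
      rw [inv_mul_eq_one] at hfree
      show (u : G) = b * a⁻¹
      rw [hfree, mul_inv_cancel_right]
  have hA2 : 2 ∣ Nat.card (A t0) := by
    rw [← h.h0]; exact Subgroup.orderOf_dvd_natCard _ (t0_mem t0)
  have hp2 : IsPGroup 2 (A t0) := by
    obtain ⟨q, k, hq, hk, hqk⟩ := Cfsg.Agent.S0346.result hZ
    rw [hcardΩ, Nat.add_sub_cancel] at hqk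
    have hq2 : q = 2 := ((Nat.prime_dvd_prime_iff_eq Nat.prime_two hq.nat_prime).1
      (Nat.prime_two.dvd_of_dvd_pow (hqk ▸ hA2))).symm
    exact IsPGroup.of_card (n := k) (by rw [← hqk, hq2])
  have he : Nat.card ↥(MulAction.stabilizer G o ⊓ MulAction.stabilizer G p : Subgroup G) =
      (A t0).relIndex (N t0) := by rw [hstab, h.D_data.1]
  by_contra hna
  push Not at hna
  obtain ⟨n, -, hn, hcard, -, hD, F, _, _, φ, hF, ⟨e⟩⟩ :=
    hK hZ h.isSimple hpo (A t0) hAa hAn hreg hp2 hna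
  obtain ⟨x, hx, y, hy, hxy⟩ := hna
  rw [hstab] at hD
  have hD' : Nat.card (D t0 i) + 1 = 2 ^ n := by
    rw [hD]; have := Nat.one_le_two_pow (n := n); omega
  have hmem : ∀ d : D t0 i, ∀ a ∈ A t0, (d : G) * a * (d : G)⁻¹ ∈ A t0 := fun d a ha =>
    (mem_normalizer_iff.1 (mem_D.1 d.2).1 a).1 ha
  let act : D t0 i →* MulAut (A t0) :=
    { toFun := fun d =>
        { toFun := fun a => ⟨(d : G) * a * (d : G)⁻¹, hmem d a a.2⟩
          invFun := fun a => ⟨(d : G)⁻¹ * a * d, by simpa using hmem d⁻¹ a a.2⟩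
          left_inv := fun a => Subtype.ext (by group)
          right_inv := fun a => Subtype.ext (by group)
          map_mul' := fun a b => Subtype.ext (by
            show (d : G) * ((a : G) * b) * (d : G)⁻¹ = (d : G) * a * (d : G)⁻¹ * ((d : G) * b * (d : G)⁻¹)
            group) }
      map_one' := MulEquiv.ext fun a => Subtype.ext (show (1 : G) * (a : G) * (1 : G)⁻¹ = a by group)
      map_mul' := fun d e => MulEquiv.ext fun a => Subtype.ext (by
        show ((d : G) * e) * a * ((d : G) * e)⁻¹ = (d : G) * ((e : G) * a * (e : G)⁻¹) * (d : G)⁻¹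
        group) }
  have hfree : ∀ d : D t0 i, ∀ a : A t0, act d a = a → d = 1 ∨ a = 1 := by
    intro d a hda
    by_contra hcon
    push Not at hcon
    have hc : (d : G) * a * (d : G)⁻¹ = a := congrArg Subtype.val hda
    rw [mul_inv_eq_iff_eq_mul] at hc
    exact hcon.2 (Subtype.ext (h.cent_inf_A d.2 (fun e => hcon.1 (Subtype.ext e)) a.2 (mem_cent.2 hc.symm)))
  have hcomm : ∀ (d : D t0 i) (a : A t0), Commute a (act d a) := by
    intro d a
    by_cases ha1 : a = 1
    · rw [ha1]; exact Commute.one_left _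
    refine Subtype.ext ?_
    show (a : G) * ((d : G) * a * (d : G)⁻¹) = (d : G) * a * (d : G)⁻¹ * a
    have hB : IsBlock (A t0) := h.ab.block t0 h.h0
    have ht0 : ∀ b ∈ A t0, t0 ∈ centralizer ({b} : Set G) := fun b hb => mem_cent.2 (mem_cent.1 hb).symm
    have hdt : (d : G) * t0 * (d : G)⁻¹ ∈ A t0 := hmem d t0 (t0_mem t0)
    have hdc : orderOf ((d : G) * t0 * (d : G)⁻¹) = 2 :=
      (orderOf_injective (MulAut.conj (d : G)).toMonoidHom (MulAut.conj (d : G)).injective t0).trans h.h0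
    have hcen : (a : G) ∈ centralizer ({(d : G) * t0 * (d : G)⁻¹} : Set G) := by
      rw [cent_eq h.ab hdc h.h0 (mem_cent.1 hdt)]; exact a.2
    have hN' : (d : G) ∈ normalizer (centralizer ({(a : G)} : Set G) : Set G) :=
      mem_normalizer_cent h.ab.ti (ht0 _ a.2) (fun e => by
        have h0 := h.h0
        rw [e, orderOf_one] at h0; omega) (mem_cent.2 (mem_cent.1 hcen).symm)
    exact (mem_cent.1 ((mem_normalizer_iff.1 hN' (a : G)).1 (mem_cent.2 rfl))).symm
  exact hxy (congrArg Subtype.val (typeA_comm act φ hn.le hF hD' hfree hcomm e ⟨x, hx⟩ ⟨y, hy⟩))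

theorem iso_psl (hK : KernelTypeA.{u}) (hE : EvenHyp G) (hno : ∀ M : Subgroup G, IsBlock M → ¬ M.Normal)
    (hns : ∀ M : Subgroup G, IsBlock M → ¬ normalizer (M : Set G) ≤ M) (heven : 2 ∣ Nat.card G) :
    ∃ (F : Type) (_ : Field F) (_ : Fintype F) (f : ℕ), 2 ≤ f ∧ Fintype.card F = 2 ^ f ∧
      Nonempty (G ≃* Matrix.ProjectiveSpecialLinearGroup (Fin 2) F) := by
  haveI : Fact (Nat.Prime 2) := ⟨Nat.prime_two⟩
  obtain ⟨t0, h0⟩ := exists_prime_orderOf_dvd_card' 2 heven
  have hB := hE.block t0 h0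
  have hN : N t0 ≠ ⊤ := fun e => hno _ hB (normalizer_eq_top_iff.1 e)
  obtain ⟨i, hi, hiN⟩ := exists_outside hE h0 hN
  have h2 : 2 ≤ (A t0).relIndex (N t0) := by
    have h0' : (A t0).relIndex (N t0) ≠ 0 := by rw [Subgroup.relIndex]; exact FiniteIndex.index_ne_zero
    have h1 : (A t0).relIndex (N t0) ≠ 1 := fun e => hns _ hB (relIndex_eq_one.1 e)
    omega
  have S := hE.setup h0 hN hi hiN h2
  have hcomm := S.kernel_comm hK
  have hab : CAGroup.AbInv G := by
    intro t ht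
    obtain ⟨g, rfl⟩ := exists_conj hE h0 hN ht
    refine ⟨⟨fun a b => Subtype.ext ?_⟩⟩
    have hconj : ∀ z, z ∈ centralizer ({g * t0 * g⁻¹} : Set G) → g⁻¹ * z * g ∈ A t0 := fun z hz =>
      (conj_mem_cent g).1 (by rw [show g * (g⁻¹ * z * g) * g⁻¹ = z by group]; exact hz)
    have e := hcomm _ (hconj _ a.2) _ (hconj _ b.2)
    show (a : G) * b = b * a
    calc (a : G) * b = g * ((g⁻¹ * a * g) * (g⁻¹ * b * g)) * g⁻¹ := by group
      _ = g * ((g⁻¹ * b * g) * (g⁻¹ * a * g)) * g⁻¹ := by rw [e]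
      _ = b * a := by group
  exact (⟨hab, S.h0, S.hN, S.hi, S.hiN, S.h3, S.dA, S.dI⟩ : CAGroup.Setup t0 i).iso_psl

end CfsgLib.PLocal.TICent
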