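import Mathlib
import Cfsg.Prelude.Def_LieExceptional
import Cfsg.Agent.Lib.PLocal.TICent.Complement
import Cfsg.Agent.Lib.PLocal.TICent.Even
import Cfsg.Agent.Lib.Perm.ElemCentRecog
import Cfsg.Agent.S0183

/-!
# Classification of groups with TI centralisers

* `classification`: nilpotent, or a Frobenius group with known complement, or `PSL(2, 2^n)`
  (given `KernelTypeA`).

Owner: helper15.
-/

set_option autoImplicit false
set_option linter.all false

universe u

namespace CfsgLib.PLocal.TICent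

open Subgroup

theorem classification (hK : KernelTypeA.{u}) {G : Type u} [Group G] [Finite G] (hTI : TICentralizers G) :
    Group.IsNilpotent G ∨
    (∃ H : Subgroup G, Cfsg.IsFrobeniusComplement H ∧
      (IsCyclic H ∨ ∃ m : ℕ, Odd m ∧ Nonempty (H ≃* Multiplicative (ZMod m) × QuaternionGroup 2))) ∨
    (∃ n : ℕ, 2 ≤ n ∧ Nonempty (G ≃* Matrix.ProjectiveSpecialLinearGroup (Fin 2) (GaloisField 2 n))) := by
  classical
  by_cases hZ : center G = ⊥
  swap
  · exact Or.inl (isNilpotent_of_center hTI hZ)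
  rcases subsingleton_or_nontrivial G with hs | hnt
  · exact Or.inl inferInstance
  by_cases hex : ∃ M : Subgroup G, IsBlock M ∧ normalizer (M : Set G) ≤ M
  · obtain ⟨M, hM, hN⟩ := hex
    exact Or.inr (Or.inl ⟨M, isFrobeniusComplement_block hTI hZ hM hN, complement_structure hTI hZ hM hN⟩)
  have hns : ∀ M : Subgroup G, IsBlock M → ¬ normalizer (M : Set G) ≤ M := fun M h h' => hex ⟨M, h, h'⟩
  have hno : ∀ M : Subgroup G, IsBlock M → ¬ M.Normal := fun M hM hn =>
    hex (exists_selfNormalizing hTI hZ hM hn)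
  have heven : 2 ∣ Nat.card G := by
    by_contra hodd
    haveI : Group.IsSolvable G := Cfsg.Agent.S0183.result
      (Nat.not_even_iff_odd.1 fun e => hodd (even_iff_two_dvd.1 e)) fun g hg => isNilpotent_cent hTI hg
    obtain ⟨M, hM, hn⟩ := exists_normal_block hTI
    exact hno M hM hn
  obtain ⟨F, iF, iFt, f, hf, hF, ⟨e⟩⟩ := iso_psl hK (evenHyp hTI hno) hno hns heven
  haveI : Fact (Nat.Prime 2) := ⟨Nat.prime_two⟩
  let _ : Fintype (GaloisField 2 f) := Fintype.ofFinite _
  obtain ⟨c⟩ := CfsgLib.Perm.nonempty_psl_congr (FiniteField.ringEquivOfCardEq (K := F) (K' := GaloisField 2 f)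
    (by rw [hF, ← Nat.card_eq_fintype_card, GaloisField.card 2 f (by omega)]))
  exact Or.inr (Or.inr ⟨f, hf, ⟨e.trans c⟩⟩)

end CfsgLib.PLocal.TICent
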